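import Mathlib
import Cfsg.Agent.Helper8.DkCoprime
import Cfsg.Agent.Helper8.DkHall
import Cfsg.Agent.Helper4.L2pPSL

set_option autoImplicit false

/-!
S0720 (Wielandt, degree `2p`), file W5, first half: group-theoretic lemmas.
* `w2p_psl_coprime`: the `p'`-subgroups of `PSL₂(F)` (Dickson) with the toral divisibility kept;
* `w2p_psl_a4`: in a simple group of order divisible by `8`, a subgroup isomorphic to `A₄` is not maximal.
-/

namespace Cfsg.Agent.W2P

open Matrix Subgroup

universe u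

/-- Subgroups of `PSL₂(F)` of order prime to the characteristic, with the toral bound. -/
theorem w2p_psl_coprime {F : Type*} [Field F] [Fintype F] {q : ℕ} (hF : Fintype.card F = q)
    (p : ℕ) [Fact p.Prime] [CharP F p]
    (H : Subgroup (Matrix.ProjectiveSpecialLinearGroup (Fin 2) F)) (hp : ¬ p ∣ Nat.card H) :
    (∃ k : ℕ, (k ∣ (q + 1) / Nat.gcd 2 (q - 1) ∨ k ∣ (q - 1) / Nat.gcd 2 (q - 1)) ∧
      ((IsCyclic H ∧ Nat.card H = k) ∨ Nonempty (H ≃* DihedralGroup k))) ∨
    Nonempty (H ≃* alternatingGroup (Fin 4)) ∨ Nonempty (H ≃* Equiv.Perm (Fin 4)) ∨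
      Nonempty (H ≃* alternatingGroup (Fin 5)) := by
  classical
  rcases Cfsg.Agent.Helper8.Dk.dickson_first (F := F) p H with
    h1 | ⟨M, hM, hne, hN⟩ | h4 | h5 | h6 | ⟨M, hM, a, k, ha, hcard, _, _, _⟩
  · left
    refine ⟨1, Or.inl (one_dvd _), Or.inl ⟨?_, h1⟩⟩
    have : Subsingleton H := (Nat.card_eq_one_iff_unique.mp h1).1
    exact isCyclic_of_subsingleton
  · rcases Cfsg.Agent.Helper8.Dk.mem_GM_iff.mp hM with hU | hT
    · exact absurd (Cfsg.Agent.Helper8.Dk.dvd_card_of_inf_pgroup p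
        (Cfsg.Agent.Helper8.Dk.GU_pgroup p M hU) hne) hp
    · exact Or.inl (Cfsg.Agent.Helper8.Dk.out_toral (F := F) hF H hT hN)
  · exact Or.inr (Or.inl h4)
  · exact Or.inr (Or.inr (Or.inl h5))
  · exact Or.inr (Or.inr (Or.inr h6))
  · exfalso
    apply hp
    have hne : M ⊓ H ≠ ⊥ := by
      intro h
      rw [h, Subgroup.card_bot] at hcard
      omega
    exact Cfsg.Agent.Helper8.Dk.dvd_card_of_inf_pgroup p (Cfsg.Agent.Helper8.Dk.GU_pgroup p M hM) hne

/-- the Klein four-group of `A₄` as the set of elements of square one -/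
def w2p_psl_K4 : Subgroup (alternatingGroup (Fin 4)) where
  carrier := {a | a ^ 2 = 1}
  mul_mem' := by
    intro a b ha hb
    have key : ∀ a b : alternatingGroup (Fin 4), a ^ 2 = 1 → b ^ 2 = 1 → (a * b) ^ 2 = 1 := by
      decide
    exact key a b ha hb
  one_mem' := by simp
  inv_mem' := by
    intro a ha
    have ha' : a ^ 2 = 1 := ha
    show a⁻¹ ^ 2 = 1
    rw [inv_pow, ha', inv_one]

theorem w2p_psl_mem_K4 (a : alternatingGroup (Fin 4)) : a ∈ w2p_psl_K4 ↔ a ^ 2 = 1 := Iff.rfl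

theorem w2p_psl_K4_normal : w2p_psl_K4.Normal := by
  constructor
  intro a ha x
  rw [w2p_psl_mem_K4] at ha ⊢
  rw [conj_pow, ha, mul_one, mul_inv_cancel]

theorem w2p_psl_A4_sq_or_cube : ∀ a : alternatingGroup (Fin 4), a ^ 2 = 1 ∨ a ^ 3 = 1 := by
  decide

theorem w2p_psl_A4_invol : ∃ a : alternatingGroup (Fin 4), a ≠ 1 ∧ a ^ 2 = 1 :=
  ⟨⟨Equiv.swap 0 1 * Equiv.swap 2 3, by rw [Equiv.Perm.mem_alternatingGroup]; decide⟩, by decide⟩

/-- a `2`-element of `A₄` lies in the four-group -/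
theorem w2p_psl_A4_two_elt (a : alternatingGroup (Fin 4)) (k : ℕ) (hk : a ^ (2 ^ k) = 1) :
    a ^ 2 = 1 := by
  rcases w2p_psl_A4_sq_or_cube a with h | h
  · exact h
  · have h1 : a ^ (Nat.gcd (2 ^ k) 3) = 1 := pow_gcd_eq_one.mpr ⟨hk, h⟩
    have hc : Nat.gcd (2 ^ k) 3 = 1 := Nat.Coprime.pow_left k (by norm_num)
    rw [hc, pow_one] at h1
    rw [h1, one_pow]

/-- In a finite simple group of order divisible by `8`, a subgroup isomorphic to `A₄` is not maximal. -/
theorem w2p_psl_a4 {G : Type u} [Group G] [Finite G] [IsSimpleGroup G] (h8 : 8 ∣ Nat.card G)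
    (H : Subgroup G) (e : H ≃* alternatingGroup (Fin 4))
    (hmax : ∀ K : Subgroup G, H ≤ K → K = H ∨ K = ⊤) : False := by
  classical
  have hH12 : Nat.card H = 12 := by
    rw [Nat.card_congr e.toEquiv]; exact Cfsg.Agent.Helper8.Dk.card_A4
  have hHtop : H ≠ ⊤ := by
    intro h
    have h1 : Nat.card H = Nat.card G := by rw [h, Subgroup.card_top]
    rw [hH12] at h1
    rw [← h1] at h8
    omega
  -- the four-group of `H`
  set V₀ : Subgroup H := w2p_psl_K4.comap e.toMonoidHom with hV₀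
  have hV₀n : V₀.Normal := Subgroup.Normal.comap w2p_psl_K4_normal _
  set V : Subgroup G := V₀.map H.subtype with hV
  have hVH : V ≤ H := Subgroup.map_subtype_le V₀
  have hmemV : ∀ g : G, g ∈ V ↔ ∃ hg : g ∈ H, (e ⟨g, hg⟩) ^ 2 = 1 := by
    intro g
    constructor
    · rintro ⟨h, hh, rfl⟩
      exact ⟨h.2, hh⟩
    · rintro ⟨hg, h2⟩
      exact ⟨⟨g, hg⟩, h2, rfl⟩
  have hsq : ∀ g : G, g ∈ V → g ^ 2 = 1 := by
    intro g hg
    obtain ⟨hgH, h2⟩ := (hmemV g).1 hg
    have h3 : e (⟨g, hgH⟩ ^ 2) = e 1 := by rw [map_pow, h2, map_one]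
    have h4 := e.injective h3
    have h5 := congrArg (Subtype.val) h4
    simpa using h5
  have hVp : IsPGroup 2 V := by
    intro g
    refine ⟨1, ?_⟩
    have := hsq g.1 g.2
    apply Subtype.ext
    simpa using this
  have hVne : V ≠ ⊥ := by
    obtain ⟨a, ha1, ha2⟩ := w2p_psl_A4_invol
    intro hbot
    have hmem : ((e.symm a : H) : G) ∈ V := by
      rw [hmemV]
      refine ⟨(e.symm a).2, ?_⟩
      simpa using ha2
    rw [hbot, Subgroup.mem_bot] at hmem
    have h1 : e.symm a = 1 := Subtype.ext hmem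
    have : a = 1 := by
      have := congrArg e h1
      simpa using this
    exact ha1 this
  -- `H` normalises `V`
  have hHN : H ≤ normalizer (V : Set G) := by
    have h1 := Subgroup.le_normalizer_map (H := V₀) H.subtype
    rw [Subgroup.normalizer_eq_top_iff.mpr hV₀n] at h1
    have h2 : (⊤ : Subgroup H).map H.subtype = H := by
      rw [← MonoidHom.range_eq_map, Subgroup.range_subtype]
    rw [h2] at h1
    exact h1
  have hN : normalizer (V : Set G) = H := by
    rcases hmax _ hHN with h | h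
    · exact h
    · exfalso
      have : V.Normal := Subgroup.normalizer_eq_top_iff.mp h
      rcases (‹V.Normal›).eq_bot_or_eq_top with hb | ht
      · exact hVne hb
      · exact hHtop (top_le_iff.mp (ht ▸ hVH))
  -- a Sylow 2-subgroup above `V`
  obtain ⟨S, hVS⟩ := hVp.exists_le_sylow
  have hS8 : 8 ∣ Nat.card S := by
    have := S.pow_dvd_card_of_pow_dvd_card (n := 3) (by norm_num; exact h8)
    simpa using this
  have hVneS : V ≠ (S : Subgroup G) := by
    intro h
    have h1 : Nat.card V ∣ Nat.card H := Subgroup.card_dvd_of_le hVH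
    rw [h, hH12] at h1
    have := hS8.trans h1
    omega
  -- normaliser growth inside the 2-group `S`
  have : Group.IsNilpotent S := S.isPGroup'.isNilpotent
  have hlt : V.subgroupOf S < ⊤ := by
    rw [lt_top_iff_ne_top]
    intro h
    rw [Subgroup.subgroupOf_eq_top] at h
    exact hVneS (le_antisymm hVS h)
  have hgrow := Group.normalizerCondition_of_isNilpotent (G := S) (V.subgroupOf S) hlt
  obtain ⟨s, hsN, hsV⟩ := SetLike.exists_of_lt hgrow
  have hsV' : (s : G) ∉ V := fun h => hsV (Subgroup.mem_subgroupOf.mpr h)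
  have hsNG : (s : G) ∈ normalizer (V : Set G) := by
    rw [Subgroup.mem_normalizer_iff]
    intro v
    rw [Subgroup.mem_normalizer_iff] at hsN
    constructor
    · intro hv
      have hvS : v ∈ (S : Subgroup G) := hVS hv
      have := (hsN ⟨v, hvS⟩).1 (Subgroup.mem_subgroupOf.mpr hv)
      rw [Subgroup.mem_subgroupOf] at this
      simpa using this
    · intro hv
      have hvS : v ∈ (S : Subgroup G) := by
        have h1 : (s : G) * v * (s : G)⁻¹ ∈ (S : Subgroup G) := hVS hv
        have h2 : (s : G)⁻¹ * ((s : G) * v * (s : G)⁻¹) * (s : G) ∈ (S : Subgroup G) :=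
          Subgroup.mul_mem _ (Subgroup.mul_mem _ (Subgroup.inv_mem _ s.2) h1) s.2
        have h3 : (s : G)⁻¹ * ((s : G) * v * (s : G)⁻¹) * (s : G) = v := by group
        rwa [h3] at h2
      have := (hsN ⟨v, hvS⟩).2 (by
        rw [Subgroup.mem_subgroupOf]
        simpa using hv)
      exact Subgroup.mem_subgroupOf.mp this
  have hsH : (s : G) ∈ H := hN ▸ hsNG
  -- `s` is a 2-element of `H ≅ A₄`, hence in `V`
  obtain ⟨k, hk⟩ := S.isPGroup' s
  have hk' : (s : G) ^ (2 ^ k) = 1 := by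
    have := congrArg Subtype.val hk
    simpa using this
  have h2 : (e ⟨(s : G), hsH⟩) ^ (2 ^ k) = 1 := by
    rw [← map_pow]
    have : (⟨(s : G), hsH⟩ : H) ^ (2 ^ k) = 1 := by
      apply Subtype.ext
      simpa using hk'
    rw [this, map_one]
  exact hsV' ((hmemV _).2 ⟨hsH, w2p_psl_A4_two_elt _ k h2⟩)

end Cfsg.Agent.W2P
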