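import Mathlib
import Cfsg.Agent.W2P.PslA

set_option autoImplicit false

/-!
S0720 (Wielandt, degree `2p`), file W5: `PSL(2,p)`, `p ≥ 7`, has no maximal subgroup of index `2p`;
`PSL(2,5)` is perfect.
-/

namespace Cfsg.Agent.W2P

open Matrix Subgroup

universe u

theorem w2p_psl_two_ne {p : ℕ} [Fact p.Prime] (hp5 : 5 ≤ p) : (2 : ZMod p) ≠ 0 := by
  intro h
  have h1 : ((2 : ℕ) : ZMod p) = 0 := by exact_mod_cast h
  rw [ZMod.natCast_eq_zero_iff] at h1
  have := Nat.le_of_dvd (by norm_num) h1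
  omega

theorem w2p_psl_unit {p : ℕ} [Fact p.Prime] (hp5 : 5 ≤ p) :
    ∃ x : ZMod p, x ≠ 0 ∧ x ^ 2 ≠ 1 := by
  refine ⟨2, w2p_psl_two_ne hp5, ?_⟩
  intro h
  have h1 : ((3 : ℕ) : ZMod p) = 0 := by
    have : ((3 : ℕ) : ZMod p) = 2 ^ 2 - 1 := by push_cast; norm_num
    rw [this, h, sub_self]
  rw [ZMod.natCast_eq_zero_iff] at h1
  have := Nat.le_of_dvd (by norm_num) h1
  omega

/-- the subgroup form inside `PSL(2, ZMod p)` -/
theorem w2p_psl_zmod {p : ℕ} [Fact p.Prime] (hp7 : 7 ≤ p)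
    (H : Subgroup (Matrix.ProjectiveSpecialLinearGroup (Fin 2) (ZMod p))) (hH : H.index = 2 * p)
    (hmax : ∀ K : Subgroup (Matrix.ProjectiveSpecialLinearGroup (Fin 2) (ZMod p)),
      H ≤ K → K = H ∨ K = ⊤) : False := by
  classical
  have hpp : p.Prime := Fact.out
  have hodd : p % 2 = 1 := by
    rcases hpp.eq_two_or_odd with h | h
    · omega
    · exact h
  have h2 : (2 : ZMod p) ≠ 0 := w2p_psl_two_ne (by omega)
  have hcard := Cfsg.Agent.Helper8.Dk.two_mul_card_PSL2 (F := ZMod p) h2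
  rw [ZMod.card p] at hcard
  have hidx := H.index_mul_card
  rw [hH] at hidx
  -- `4 |H| = p² - 1`
  have hp1 : 1 ≤ p ^ 2 := Nat.one_le_pow _ _ hpp.pos
  have h4 : 4 * Nat.card H = p ^ 2 - 1 := by
    have h5 : p * (4 * Nat.card H) = p * (p ^ 2 - 1) := by
      rw [← hcard, ← hidx]; ring
    exact Nat.eq_of_mul_eq_mul_left hpp.pos h5
  have h4' : 4 * Nat.card H + 1 = p ^ 2 := by omega
  have hnp : ¬ p ∣ Nat.card H := by
    intro hd
    have h6 : p ∣ 4 * Nat.card H := Dvd.dvd.mul_left hd 4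
    have h7 : p ∣ p ^ 2 := dvd_pow_self p (by norm_num)
    rw [← h4'] at h7
    have h8 : p ∣ 1 := (Nat.dvd_add_right h6).mp h7
    have := Nat.le_of_dvd (by norm_num) h8
    omega
  have hgcd : Nat.gcd 2 (p - 1) = 2 := Nat.gcd_eq_left (by omega)
  rcases w2p_psl_coprime (F := ZMod p) (ZMod.card p) p H hnp with
    ⟨k, hk, hcd⟩ | ⟨⟨e⟩⟩ | ⟨⟨e⟩⟩ | ⟨⟨e⟩⟩
  · -- cyclic or dihedral: `|H| ≤ p + 1`
    rw [hgcd] at hk
    have hkle : 2 * k ≤ p + 1 := by
      rcases hk with hk | hk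
      · have := Nat.le_of_dvd (by omega) hk
        omega
      · have := Nat.le_of_dvd (by omega) hk
        omega
    have hHle : Nat.card H ≤ 2 * k := by
      rcases hcd with ⟨_, hc⟩ | ⟨⟨e⟩⟩
      · omega
      · rw [Nat.card_congr e.toEquiv, DihedralGroup.nat_card]
    nlinarith
  · -- `A₄`: `p = 7`
    have h12 : Nat.card H = 12 := by
      rw [Nat.card_congr e.toEquiv]; exact Cfsg.Agent.Helper8.Dk.card_A4
    have hp7' : p = 7 := by nlinarith
    have := Cfsg.Agent.Helper4.L2p.isSimpleGroup_PSL2 (F := ZMod p) (w2p_psl_unit (by omega))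
    have h8 : 8 ∣ Nat.card (Matrix.ProjectiveSpecialLinearGroup (Fin 2) (ZMod p)) := by
      have h9 : 2 * Nat.card (Matrix.ProjectiveSpecialLinearGroup (Fin 2) (ZMod p)) = 2 * 168 := by
        rw [hcard, hp7']; norm_num
      have : Nat.card (Matrix.ProjectiveSpecialLinearGroup (Fin 2) (ZMod p)) = 168 := by omega
      rw [this]; norm_num
    exact w2p_psl_a4 h8 H e hmax
  · -- `S₄`: `p² = 97`
    have h24 : Nat.card H = 24 := by
      rw [Nat.card_congr e.toEquiv]; exact Cfsg.Agent.Helper8.Dk.card_S4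
    have h97 : p ^ 2 = 97 := by omega
    rcases Nat.lt_or_ge p 10 with h | h
    · nlinarith
    · nlinarith
  · -- `A₅`: `p² = 241`
    have h60 : Nat.card H = 60 := by
      rw [Nat.card_congr e.toEquiv]; exact Cfsg.Agent.Helper8.Dk.card_A5
    have h241 : p ^ 2 = 241 := by omega
    rcases Nat.lt_or_ge p 16 with h | h
    · nlinarith
    · nlinarith

/-- PSL(2,p), p ≥ 7, has no core-free maximal subgroup of index 2p -/
theorem w2p_psl {G : Type u} [Group G] [Finite G] {p : ℕ} [Fact p.Prime] (hp7 : 7 ≤ p)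
    (e : G ≃* Matrix.ProjectiveSpecialLinearGroup (Fin 2) (ZMod p)) (H : Subgroup G) (hH : H.index = 2 * p)
    (hmax : ∀ K : Subgroup G, H ≤ K → K = H ∨ K = ⊤) : False := by
  refine w2p_psl_zmod hp7 (H.map e.toMonoidHom) ?_ ?_
  · exact (Subgroup.index_map_equiv H e).trans hH
  · intro K hK
    have h1 : H ≤ K.comap e.toMonoidHom := Subgroup.map_le_iff_le_comap.mp hK
    have hsurj : Function.Surjective e.toMonoidHom := e.surjective
    rcases hmax _ h1 with h | h
    · left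
      rw [← h, Subgroup.map_comap_eq_self_of_surjective hsurj]
    · right
      have := congrArg (Subgroup.map e.toMonoidHom) h
      rw [Subgroup.map_comap_eq_self_of_surjective hsurj, Subgroup.map_top_of_surjective _ hsurj] at this
      exact this

/-- PSL(2,5) is perfect (one line from Helper4.commutator_PSL2_eq_top) -/
theorem w2p_psl_five_perfect {G : Type u} [Group G] (e : G ≃* Matrix.ProjectiveSpecialLinearGroup (Fin 2) (ZMod 5)) :
    commutator G = ⊤ := by
  have : Fact (Nat.Prime 5) := ⟨by norm_num⟩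
  have h1 := Cfsg.Agent.Helper4.L2p.commutator_PSL2_eq_top (F := ZMod 5) (w2p_psl_unit (p := 5) le_rfl)
  have hsurj : Function.Surjective e.symm.toMonoidHom := e.symm.surjective
  rw [commutator_def] at h1 ⊢
  have h2 := Subgroup.map_commutator (⊤ : Subgroup (Matrix.ProjectiveSpecialLinearGroup (Fin 2) (ZMod 5))) ⊤
    e.symm.toMonoidHom
  rw [h1, Subgroup.map_top_of_surjective _ hsurj] at h2
  exact h2.symm

end Cfsg.Agent.W2P
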