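import Mathlib
import Cfsg.Agent.BR.Block
import Cfsg.Agent.BR.BlockB
import Cfsg.Agent.BR.BlockC
import Cfsg.Agent.BR.Star
import Cfsg.Agent.Helper6.Regular
import Cfsg.Agent.Helper6.BlockKernel
import Cfsg.Agent.Helper6.Linear
import Cfsg.Agent.S4503
import Cfsg.Agent.S4504
import Cfsg.Agent.W2P.Psl

/-!
# S0720 (Wielandt, primitive groups of degree `2p`), file W4: the BAD branch dies (helper6)

`w2p_bad` (header frozen in `notes/S0720_helper3.md`): `ep = 1`, `|Y| ≥ 2` and `ψ(1) = f` on `Y` is
impossible.  `ψ ∈ Y` is faithful of degree `f`, `|Y| f = p - 1`: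
* `|Y| ≥ 3`: landed S4503 gives `p ≤ 2 f + 1`;
* `|Y| = 2`: `p = 3`: `ψ` is linear and faithful, `G` is commutative, `P` is normal;
  otherwise landed S4504 gives `G ≅ PSL(2,p)` (the centre is trivial); `p ≥ 7`: `w2p_psl` for a point
  stabiliser; `p = 5`: (B3) for the regular character gives a nontrivial linear character of the
  perfect group `PSL(2,5)`.
-/

set_option autoImplicit false
set_option linter.style.haveILetI false
set_option linter.unusedSectionVars false

namespace Cfsg.Agent.W2P

open Cfsg Cfsg.Agent.Helper6 Cfsg.Agent.BR MulAction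

universe u

section general

variable {G : Type u} [Group G] [Finite G] {p : ℕ} [hp : Fact p.Prime] {P : Sylow p G}
  {X Y : Set (IrrCharacter G)} {dl : IrrCharacter G → ℤ} {ep : ℤ}
  {O : IrrCharacter G → Finset (↥(P : Subgroup G) →* ℂˣ)}

/-- a member of `Y` of degree `f` (with `ep = 1`) is faithful as soon as every nontrivial normal
subgroup contains `P` -/
theorem w2p_bad_faithful (h : br_blk_IsData P X Y dl ep O) (hep : ep = 1)
    (hnorm : ∀ K : Subgroup G, K.Normal → K ≠ ⊥ → (P : Subgroup G) ≤ K)
    (ψ : IrrCharacter G) (hψ : ψ ∈ Y)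
    (hdeg : charDegree (ψ : G → ℂ) =
      (P : Subgroup G).relIndex (Subgroup.normalizer ((P : Subgroup G) : Set G))) :
    ∀ g : G, (ψ : G → ℂ) g = (ψ : G → ℂ) 1 → g = 1 := by
  classical
  haveI := br_blk_finite_P h
  haveI : Fintype ↥(P : Subgroup G) := Fintype.ofFinite _
  have hK : kerSub ψ = ⊥ := by
    by_contra hK
    have hPK := hnorm (kerSub ψ) (kerSub_normal ψ) hK
    have h1 := br_blk_sum_P_Y h ψ hψ
    have h2 : ∀ x : ↥(P : Subgroup G), (ψ : G → ℂ) (x : G) = (ψ : G → ℂ) 1 := fun x =>
      (mem_kerSub ψ (x : G)).mp (hPK x.2)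
    rw [Finset.sum_congr rfl (fun x _ => h2 x), Finset.sum_const, Finset.card_univ, nsmul_eq_mul,
      br_blk_card_fintype h, ← br_blk_deg_cast, hdeg, hep] at h1
    have hf := br_blk_f_pos h
    have h3 : (p : ℂ) * (((P : Subgroup G).relIndex
        (Subgroup.normalizer ((P : Subgroup G) : Set G)) : ℕ) : ℂ) = 0 := by
      push_cast at h1 ⊢
      linear_combination h1
    have h4 : p * (P : Subgroup G).relIndex
        (Subgroup.normalizer ((P : Subgroup G) : Set G)) = 0 := by exact_mod_cast h3
    have := hp.out.pos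
    rcases Nat.mul_eq_zero.mp h4 with h5 | h5 <;> omega
  intro g hg
  have : g ∈ kerSub ψ := (mem_kerSub ψ g).mpr hg
  rwa [hK, Subgroup.mem_bot] at this

/-- `p` divides `|G|` exactly once -/
theorem w2p_bad_sq (hP : Nat.card (P : Subgroup G) = p) :
    p ∣ Nat.card G ∧ ¬ p ^ 2 ∣ Nat.card G := by
  refine ⟨?_, ?_⟩
  · rw [← hP]
    exact Subgroup.card_subgroup_dvd_card _
  · intro hdvd
    have h1 := P.pow_dvd_card_of_pow_dvd_card hdvd
    rw [hP] at h1
    have h2 := Nat.le_of_dvd hp.out.pos h1
    have := hp.out.two_le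
    have : p < p ^ 2 := by nlinarith
    omega

/-- no normal subgroup of order `p` -/
theorem w2p_bad_nn (hP : Nat.card (P : Subgroup G) = p)
    (hnorm : ∀ K : Subgroup G, K.Normal → K ≠ ⊥ → (P : Subgroup G) ≤ K)
    (hnn : ¬ (P : Subgroup G).Normal) : ∀ H : Subgroup G, H.Normal → Nat.card H ≠ p := by
  intro H hH hc
  have hne : H ≠ ⊥ := by
    intro h0
    rw [h0, Subgroup.card_bot] at hc
    have := hp.out.two_le
    omega
  have hle := hnorm H hH hne
  have heq : (P : Subgroup G) = H := by
    apply Subgroup.eq_of_le_of_card_ge hle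
    rw [hP, hc]
  exact hnn (heq ▸ hH)

/-- the centre is trivial -/
theorem w2p_bad_center
    (hnorm : ∀ K : Subgroup G, K.Normal → K ≠ ⊥ → (P : Subgroup G) ≤ K)
    (hnn : ¬ (P : Subgroup G).Normal) : Subgroup.center G = ⊥ := by
  by_contra hne
  have hle := hnorm (Subgroup.center G) inferInstance hne
  apply hnn
  constructor
  intro x hx g
  have := Subgroup.mem_center_iff.mp (hle hx) g
  rw [this, mul_inv_cancel_right]
  exact hx

end general

/-- **S0720, file W4.** -/
theorem w2p_bad {α : Type u} [Fintype α] [DecidableEq α] {p : ℕ} [Fact p.Prime] (hp2 : p ≠ 2)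
    (hα : Fintype.card α = 2 * p) (G : Subgroup (Equiv.Perm α)) (hprim : MulAction.IsPreprimitive G α)
    (P : Sylow p G) (hP : Nat.card (P : Subgroup G) = p)
    (hnorm : ∀ K : Subgroup G, K.Normal → K ≠ ⊥ → (P : Subgroup G) ≤ K) (hnn : ¬ (P : Subgroup G).Normal)
    {X Y : Set (IrrCharacter G)} {dl : IrrCharacter G → ℤ} {ep : ℤ} {O : IrrCharacter G → Finset (↥(P : Subgroup G) →* ℂˣ)}
    (h : br_blk_IsData P X Y dl ep O) (hep : ep = 1) (hY2 : 2 ≤ Nat.card Y)
    (hdeg : ∀ ψ ∈ Y, charDegree (ψ : G → ℂ) = (P : Subgroup G).relIndex (Subgroup.normalizer ((P : Subgroup G) : Set G))) : False := by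
  classical
  have hpp : p.Prime := Fact.out
  haveI : Finite (IrrCharacter G) := irr_finite
  haveI : Fintype (IrrCharacter G) := Fintype.ofFinite _
  haveI : Fintype G := Fintype.ofFinite _
  haveI := br_blk_finite_P h
  haveI : Fintype ↥(P : Subgroup G) := Fintype.ofFinite _
  obtain ⟨f, hf⟩ : ∃ f : ℕ, f =
    (P : Subgroup G).relIndex (Subgroup.normalizer ((P : Subgroup G) : Set G)) := ⟨_, rfl⟩
  have hfpos : 0 < f := by rw [hf]; exact br_blk_f_pos h
  have hcY : Nat.card Y * f = p - 1 := by rw [hf]; exact h.card_Y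
  have hp2' : 2 ≤ p := hpp.two_le
  haveI : Nonempty Y := by
    rcases isEmpty_or_nonempty Y with he | hne'
    · rw [Nat.card_of_isEmpty] at hY2
      omega
    · exact hne'
  obtain ⟨⟨ψ, hψ⟩⟩ := (inferInstance : Nonempty Y)
  have hdegψ : charDegree (ψ : G → ℂ) = f := by rw [hf]; exact hdeg ψ hψ
  have hfaith := w2p_bad_faithful h hep hnorm ψ hψ (hdeg ψ hψ)
  obtain ⟨hdiv, hsq⟩ := w2p_bad_sq (P := P) hP
  have hnn' := w2p_bad_nn hP hnorm hnn
  have hψc : IsCharacter G (ψ : G → ℂ) := IsIrrCharacter.isCharacter ψ.2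
  rcases (by omega : Nat.card Y = 2 ∨ 3 ≤ Nat.card Y) with ht | ht
  · -- `t = 2`
    rw [ht] at hcY
    by_cases hf1 : f = 1
    · -- `p = 3`: `ψ` is linear and faithful
      have h1 : (ψ : G → ℂ) 1 = 1 := by
        rw [← br_blk_deg_cast, hdegψ, hf1, Nat.cast_one]
      obtain ⟨lam, hlam⟩ := exists_hom_of_irr_degree_one ψ.2 h1
      have hinj : Function.Injective lam := by
        rw [injective_iff_map_eq_one]
        intro g hg
        apply hfaith
        rw [hlam]
        simp only
        rw [hg, map_one]
      have hcomm : ∀ a b : G, a * b = b * a := by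
        intro a b
        apply hinj
        rw [map_mul, map_mul, mul_comm]
      apply hnn
      constructor
      intro x hx g
      rw [hcomm g x, mul_inv_cancel_right]
      exact hx
    · -- `p ≥ 5`
      have hdeg2 : 2 * charDegree (ψ : G → ℂ) + 1 = p := by rw [hdegψ]; omega
      obtain ⟨e0⟩ := Cfsg.Agent.S4504.result p hpp hdiv hsq hnn' (ψ : G → ℂ) hψc hfaith hdeg2
      have hZ := w2p_bad_center hnorm hnn
      let e : G ≃* Matrix.ProjectiveSpecialLinearGroup (Fin 2) (ZMod p) :=
        (QuotientGroup.quotientBot (G := G)).symm.trans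
          ((QuotientGroup.quotientMulEquivOfEq hZ.symm).trans e0)
      by_cases hp7 : 7 ≤ p
      · -- a point stabiliser is maximal of index `2 p`
        haveI : Nonempty α := by
          rw [← Fintype.card_pos_iff, hα]
          omega
        haveI : Nontrivial α := by
          rw [← Fintype.one_lt_card_iff_nontrivial, hα]
          omega
        obtain ⟨a₀⟩ := (inferInstance : Nonempty α)
        haveI : IsPretransitive G α := hprim.toIsPretransitive
        have hidx : (stabilizer G a₀).index = 2 * p := by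
          rw [index_stabilizer_of_transitive, Nat.card_eq_fintype_card, hα]
        have hco := IsPreprimitive.isCoatom_stabilizer_of_isPreprimitive (G := G) a₀
        refine w2p_psl hp7 e (stabilizer G a₀) hidx (fun K hK => ?_)
        rcases eq_or_lt_of_le hK with h1 | h1
        · left; exact h1.symm
        · right; exact hco.2 K h1
      · -- `p = 5`
        have hp5 : p = 5 := by
          have h3 : p ≠ 3 := by
            intro h3
            rw [h3] at hcY
            omega
          have h4 : p ≠ 4 := by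
            intro h4
            rw [h4] at hpp
            norm_num at hpp
          have h6 : p ≠ 6 := by
            intro h6
            rw [h6] at hpp
            norm_num at hpp
          omega
        subst hp5
        have hf2 : f = 2 := by omega
        have hperf : commutator G = ⊤ := w2p_psl_five_perfect e
        -- `X = {1, χ₁}`
        have hcX : Nat.card X = 2 := by rw [h.card_X, ← hf, hf2]
        obtain ⟨⟨χ₁, hχ₁X⟩, hne0, huniq⟩ :=
          (Nat.card_eq_two_iff' (⟨trivIrr G, h.triv_mem⟩ : X)).mp hcX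
        have hne : trivIrr G ≠ χ₁ := by
          intro he
          apply hne0
          exact Subtype.ext he.symm
        have hXeq : X = {trivIrr G, χ₁} := by
          ext χ
          constructor
          · intro hχ
            by_cases hc : χ = trivIrr G
            · left; exact hc
            · right
              have := huniq ⟨χ, hχ⟩ (fun he => hc (congrArg Subtype.val he))
              exact congrArg Subtype.val this
          · rintro (rfl | rfl)
            · exact h.triv_mem
            · exact hχ₁X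
        obtain ⟨x₀, hx₀⟩ := br_blk_exists_ne_one h
        have hdltriv : dl (trivIrr G) = 1 := by
          have h1 := h.val_X (trivIrr G) h.triv_mem (x₀ : G) x₀.2 (br_blk_ne_one_coe x₀ hx₀)
          have h2 : ((trivIrr G : IrrCharacter G) : G → ℂ) (x₀ : G) = 1 := rfl
          rw [h2] at h1
          exact_mod_cast h1.symm
        obtain ⟨c₁, hc₁⟩ : ∃ c₁ : ℕ, c₁ = charDegree (χ₁ : G → ℂ) := ⟨_, rfl⟩
        have hc₁2 : 2 ≤ c₁ := by
          rw [hc₁]
          exact br_star_two_le hperf χ₁ (fun he => hne he.symm)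
        -- (B3) for the regular character
        have hreg : (1 : ℤ) + (c₁ : ℤ) * dl χ₁ - ep * (f : ℤ) = 0 := by
          obtain ⟨m', hm', hrel⟩ := br_blk_indep h (fun χ => (χ : G → ℂ) 1) 0 (by
            intro x hx hx1
            have := sum_degree_mul_irr (G := G) x
            rw [if_neg hx1] at this
            exact this)
          have h1 : m' = (f : ℂ) := by
            rw [← hm' ψ hψ, ← hdegψ, br_blk_deg_cast]
          rw [hXeq, finsum_mem_pair hne, h1, hdltriv, ← br_blk_deg_cast χ₁, ← hc₁] at hrel
          have h2 : ((trivIrr G : IrrCharacter G) : G → ℂ) 1 = 1 := rfl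
          rw [h2] at hrel
          exact_mod_cast hrel
        rw [hep, hf2] at hreg
        rcases h.dl_sign χ₁ with hd | hd <;> rw [hd] at hreg <;> push_cast at hreg <;> omega
  · -- `t ≥ 3`
    have h1 := Cfsg.Agent.S4503.result p hpp hdiv hsq hnn' (ψ : G → ℂ) hψc hfaith
    rw [hdegψ] at h1
    have h2 : 3 * f ≤ Nat.card Y * f := Nat.mul_le_mul_right f ht
    omega

end Cfsg.Agent.W2P
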