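/-
S0720 (Wielandt, degree 2p), W2 part 2 (helper4): `w2p_cent_core` = `w2p_cent` with the regular cyclic theorem
`w2p_regcyc` as a hypothesis (the final `w2p_cent` is in `W2P/Cent.lean`).
`P` Sylow of order `p`, semiregular on `2p` points, `G` primitive and not 2-transitive:
`C_G(P) = P`.
-/
import Mathlib
import Cfsg.Agent.D1C.SecA

set_option autoImplicit false
set_option linter.style.haveILetI false
set_option linter.unusedSectionVars false

namespace Cfsg.Agent.W2P

open Cfsg MulAction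

universe u v

section orbits

variable {Γ : Type v} [Group Γ] {α : Type u} [MulAction Γ α] {p : ℕ}

/-- `b` lies in the orbit of `a` under the powers of `x` -/
def w2p_cent_same (x : Γ) (a b : α) : Prop := ∃ i : ℕ, (x ^ i) • a = b

theorem w2p_cent_same_refl (x : Γ) (a : α) : w2p_cent_same x a a := ⟨0, by simp⟩

theorem w2p_cent_same_trans {x : Γ} {a b c : α} (h1 : w2p_cent_same x a b)
    (h2 : w2p_cent_same x b c) : w2p_cent_same x a c := by
  obtain ⟨i, rfl⟩ := h1
  obtain ⟨j, rfl⟩ := h2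
  exact ⟨j + i, by rw [pow_add, mul_smul]⟩

theorem w2p_cent_same_symm {x : Γ} (hp0 : 0 < p) (hx : x ^ p = 1) {a b : α}
    (h1 : w2p_cent_same x a b) : w2p_cent_same x b a := by
  obtain ⟨i, rfl⟩ := h1
  refine ⟨(p - 1) * i, ?_⟩
  rw [← mul_smul, ← pow_add]
  have : (p - 1) * i + i = p * i := by
    have : p - 1 + 1 = p := Nat.sub_add_cancel hp0
    calc (p - 1) * i + i = (p - 1 + 1) * i := by ring
      _ = p * i := by rw [this]
  rw [this, pow_mul, hx, one_pow, one_smul]

/-- an element commuting with `x` preserves the relation -/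
theorem w2p_cent_same_smul {x z : Γ} (hc : Commute z x) {a b : α} (h1 : w2p_cent_same x a b) :
    w2p_cent_same x (z • a) (z • b) := by
  obtain ⟨i, rfl⟩ := h1
  refine ⟨i, ?_⟩
  rw [← mul_smul, ← mul_smul, (hc.pow_right i).eq]

theorem w2p_cent_same_of_smul {x z : Γ} (hc : Commute z x) {a b : α}
    (h1 : w2p_cent_same x (z • a) (z • b)) : w2p_cent_same x a b := by
  have h2 := w2p_cent_same_smul (hc.inv_left) h1
  simpa using h2

/-- the orbit as a finset -/
def w2p_cent_orb [DecidableEq α] (x : Γ) (p : ℕ) (a : α) : Finset α :=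
  (Finset.range p).image fun i => (x ^ i) • a

theorem w2p_cent_mem_orb [DecidableEq α] {x : Γ} (hp0 : 0 < p) (hx : x ^ p = 1) {a b : α} :
    b ∈ w2p_cent_orb x p a ↔ w2p_cent_same x a b := by
  unfold w2p_cent_orb
  rw [Finset.mem_image]
  constructor
  · rintro ⟨i, -, h⟩
    exact ⟨i, h⟩
  · rintro ⟨i, h⟩
    refine ⟨i % p, Finset.mem_range.mpr (Nat.mod_lt _ hp0), ?_⟩
    rw [← h]
    congr 1
    conv_rhs => rw [← Nat.div_add_mod i p]
    rw [pow_add, pow_mul, hx, one_pow, one_mul]

theorem w2p_cent_card_orb [DecidableEq α] {x : Γ}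
    (hfree : ∀ k : ℕ, 0 < k → k < p → ∀ a : α, (x ^ k) • a ≠ a) (a : α) :
    (w2p_cent_orb x p a).card = p := by
  unfold w2p_cent_orb
  rw [Finset.card_image_of_injOn, Finset.card_range]
  have key : ∀ i j : ℕ, i ≤ j → j < p → (x ^ i) • a = (x ^ j) • a → i = j := by
    intro i j hij hj h
    by_contra hne
    have hlt : i < j := lt_of_le_of_ne hij hne
    have h1 : (x ^ (j - i)) • ((x ^ i) • a) = (x ^ i) • a := by
      rw [← mul_smul, ← pow_add, Nat.sub_add_cancel hij, h]
    exact hfree (j - i) (Nat.sub_pos_of_lt hlt) (lt_of_le_of_lt (Nat.sub_le _ _) hj) _ h1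
  intro i hi j hj h
  rw [Finset.coe_range, Set.mem_Iio] at hi hj
  rcases le_total i j with hij | hij
  · exact key i j hij hj h
  · exact (key j i hij hi h.symm).symm

/-- two points outside the orbit of `a` are in the same orbit -/
theorem w2p_cent_two_orbits [Fintype α] [DecidableEq α] {x : Γ} (hp0 : 0 < p) (hx : x ^ p = 1)
    (hα : Fintype.card α = 2 * p)
    (hfree : ∀ k : ℕ, 0 < k → k < p → ∀ a : α, (x ^ k) • a ≠ a) {a b c : α}
    (hb : ¬ w2p_cent_same x a b) (hc : ¬ w2p_cent_same x a c) : w2p_cent_same x b c := by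
  have hdisj : Disjoint (w2p_cent_orb x p a) (w2p_cent_orb x p b) := by
    rw [Finset.disjoint_left]
    intro d hd1 hd2
    rw [w2p_cent_mem_orb hp0 hx] at hd1 hd2
    exact hb (w2p_cent_same_trans hd1 (w2p_cent_same_symm hp0 hx hd2))
  have hcard : (w2p_cent_orb x p a ∪ w2p_cent_orb x p b).card = Fintype.card α := by
    rw [Finset.card_union_of_disjoint hdisj, w2p_cent_card_orb hfree, w2p_cent_card_orb hfree, hα]
    ring
  have huniv : w2p_cent_orb x p a ∪ w2p_cent_orb x p b = Finset.univ :=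
    (Finset.card_eq_iff_eq_univ _).mp hcard
  have hmem : c ∈ w2p_cent_orb x p a ∪ w2p_cent_orb x p b := by
    rw [huniv]; exact Finset.mem_univ c
  rcases Finset.mem_union.mp hmem with h | h
  · exact absurd ((w2p_cent_mem_orb hp0 hx).mp h) hc
  · exact (w2p_cent_mem_orb hp0 hx).mp h

/-- an element commuting with `x` and fixing a point has `p`-th power acting trivially -/
theorem w2p_cent_semireg [Fintype α] [DecidableEq α] {x z : Γ} (hp0 : 0 < p) (hx : x ^ p = 1)
    (hα : Fintype.card α = 2 * p)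
    (hfree : ∀ k : ℕ, 0 < k → k < p → ∀ a : α, (x ^ k) • a ≠ a) (hzx : Commute z x) {a : α}
    (hza : z • a = a) (c : α) : (z ^ p) • c = c := by
  by_cases hc : w2p_cent_same x a c
  · -- `z` fixes the orbit of `a` pointwise
    have h1 : z • c = c := by
      obtain ⟨i, rfl⟩ := hc
      rw [← mul_smul, (hzx.pow_right i).eq, mul_smul, hza]
    have h2 : ∀ n : ℕ, (z ^ n) • c = c := by
      intro n
      induction n with
      | zero => simp
      | succ n ih => rw [pow_succ, mul_smul, h1, ih]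
    exact h2 p
  · have hzc : ¬ w2p_cent_same x a (z • c) := by
      intro h
      rw [← hza] at h
      exact hc (w2p_cent_same_of_smul hzx h)
    obtain ⟨j, hj⟩ := w2p_cent_two_orbits hp0 hx hα hfree hc hzc
    have h2 : ∀ n : ℕ, (z ^ n) • c = (x ^ (j * n)) • c := by
      intro n
      induction n with
      | zero => simp
      | succ n ih =>
        have hjn : j * n + j = j * (n + 1) := by ring
        rw [pow_succ', mul_smul, ih, ← mul_smul, (hzx.pow_right (j * n)).eq, mul_smul, ← hj,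
          ← mul_smul, ← pow_add, hjn]
    rw [h2 p, mul_comm, pow_mul, hx, one_pow, one_smul]

end orbits

section main

variable {α : Type u} [Fintype α] [DecidableEq α] {p : ℕ} [hpF : Fact p.Prime]

/-- `w2p_cent` with the regular-cyclic theorem as a hypothesis -/
theorem w2p_cent_core (hp2 : p ≠ 2) (hα : Fintype.card α = 2 * p)
    (G : Subgroup (Equiv.Perm α))
    (hreg2 : ∀ c : G, orderOf c = 2 * p →
      (∀ k : ℕ, 0 < k → k < 2 * p → ∀ a : α, (c ^ k) • a ≠ a) →
      MulAction.IsMultiplyPretransitive G α 2)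
    (hnot2 : ¬ MulAction.IsMultiplyPretransitive G α 2) (P : Sylow p G)
    (hP : Nat.card (P : Subgroup G) = p)
    (hfix : ∀ x : G, x ∈ (P : Subgroup G) → x ≠ 1 → Nat.card (MulAction.fixedBy α x) = 0) :
    Subgroup.centralizer ((P : Subgroup G) : Set G) ≤ (P : Subgroup G) := by
  have hp : p.Prime := hpF.out
  have hp0 : 0 < p := hp.pos
  have hcop : Nat.Coprime p 2 := by
    rw [Nat.coprime_primes hp Nat.prime_two]; exact hp2
  -- nontrivial elements of `P` have no fixed point
  have hfix' : ∀ x : G, x ∈ (P : Subgroup G) → x ≠ 1 → ∀ a : α, x • a ≠ a := by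
    intro x hx hx1 a ha
    have h0 := hfix x hx hx1
    rw [Nat.card_eq_zero] at h0
    rcases h0 with h0 | h0
    · exact h0.elim ⟨a, ha⟩
    · exact h0.not_finite inferInstance
  -- a generator
  obtain ⟨x, hxP, hx1⟩ : ∃ x : G, x ∈ (P : Subgroup G) ∧ x ≠ 1 := by
    by_contra hcon
    push Not at hcon
    have hbot : (P : Subgroup G) = ⊥ := (Subgroup.eq_bot_iff_forall _).mpr hcon
    rw [hbot, Subgroup.card_bot] at hP
    exact hp.one_lt.ne hP
  have hxord : orderOf x = p := D1.d1_sec_orderOf_eq _ hP x hxP hx1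
  have hxp : x ^ p = 1 := by rw [← hxord]; exact pow_orderOf_eq_one x
  have hPp : ∀ g : G, g ∈ (P : Subgroup G) → g ^ p = 1 := by
    intro g hg
    by_cases hg1 : g = 1
    · rw [hg1, one_pow]
    · rw [← D1.d1_sec_orderOf_eq _ hP g hg hg1]; exact pow_orderOf_eq_one g
  have hfree : ∀ k : ℕ, ¬ p ∣ k → ∀ a : α, (x ^ k) • a ≠ a := by
    intro k hk
    apply hfix' _ (pow_mem hxP k)
    intro h1
    apply hk
    rw [← hxord]
    exact orderOf_dvd_of_pow_eq_one h1
  have hfree' : ∀ k : ℕ, 0 < k → k < p → ∀ a : α, (x ^ k) • a ≠ a := fun k hk0 hkp =>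
    hfree k (Nat.not_dvd_of_pos_of_lt hk0 hkp)
  have hPC : (P : Subgroup G) ≤ Subgroup.centralizer ((P : Subgroup G) : Set G) :=
    D1.d1_sec_le_centralizer _ hP
  obtain ⟨τ, S⟩ := D1.d1_sec_exists_setup P hP
  have hcomm : ∀ y : G, y ∈ Subgroup.centralizer ((P : Subgroup G) : Set G) → Commute y x := by
    intro y hy
    rw [Subgroup.mem_centralizer_iff] at hy
    exact (hy x hxP).symm
  -- case A
  have hA : ∀ y : G, y ∈ Subgroup.centralizer ((P : Subgroup G) : Set G) → ∀ a : α,
      w2p_cent_same x a (y • a) → y ∈ (P : Subgroup G) := by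
    intro y hy a ⟨i, hi⟩
    have hzC : (x ^ i)⁻¹ * y ∈ Subgroup.centralizer ((P : Subgroup G) : Set G) :=
      mul_mem (inv_mem (pow_mem (hPC hxP) i)) hy
    have hza : ((x ^ i)⁻¹ * y) • a = a := by
      rw [mul_smul, ← hi, inv_smul_smul]
    have hzp : ((x ^ i)⁻¹ * y) ^ p = 1 := by
      have h1 := w2p_cent_semireg hp0 hxp hα hfree' (hcomm _ hzC) hza
      apply Subtype.ext
      apply Equiv.ext
      intro c
      exact h1 c
    have hzP : ((x ^ i)⁻¹ * y) ∈ (P : Subgroup G) := by
      have h1 := S.mem_P_of_pow ⟨_, hzC⟩ (Subtype.ext hzp)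
      exact h1
    have hz1 : (x ^ i)⁻¹ * y = 1 := by
      by_contra hne
      exact hfix' _ hzP hne a hza
    have hy' : y = x ^ i := by
      rw [inv_mul_eq_one] at hz1
      exact hz1.symm
    rw [hy']
    exact pow_mem hxP i
  intro y hy
  by_contra hyP
  have hB : ∀ s : G, s ∈ Subgroup.centralizer ((P : Subgroup G) : Set G) →
      s ∉ (P : Subgroup G) → ∀ a : α, ¬ w2p_cent_same x a (s • a) :=
    fun s hs hsP a h => hsP (hA s hs a h)
  have hne : Nonempty α := by
    rw [← Fintype.card_pos_iff, hα]; omega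
  obtain ⟨a₀⟩ := hne
  -- `y * y ∈ P`
  have hyy : y * y ∈ (P : Subgroup G) := by
    apply hA (y * y) (mul_mem hy hy) a₀
    by_contra h
    rw [mul_smul] at h
    have h1 := w2p_cent_two_orbits hp0 hxp hα hfree' (hB y hy hyP a₀) h
    exact hB y hy hyP a₀ (w2p_cent_same_of_smul (hcomm y hy) h1)
  obtain ⟨k, hk⟩ : ∃ k : ℕ, p = 2 * k + 1 := by
    rcases hp.eq_two_or_odd' with h | h
    · exact absurd h hp2
    · exact h
  have hsC : y ^ p ∈ Subgroup.centralizer ((P : Subgroup G) : Set G) := pow_mem hy p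
  have hsw : y ^ p = (y * y) ^ k * y := by
    conv_lhs => rw [hk]
    rw [pow_succ, pow_mul, pow_two]
  have hsP : y ^ p ∉ (P : Subgroup G) := by
    intro h
    apply hyP
    have h2 : y = ((y * y) ^ k)⁻¹ * y ^ p := by rw [hsw, inv_mul_cancel_left]
    rw [h2]
    exact mul_mem (inv_mem (pow_mem hyy k)) h
  have hs2 : (y ^ p) ^ 2 = 1 := by
    rw [← pow_mul, mul_comm, pow_mul, pow_two]
    exact hPp _ hyy
  have hs1 : y ^ p ≠ 1 := by
    intro h
    apply hsP
    rw [h]
    exact one_mem _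
  have hsa := hB (y ^ p) hsC hsP
  have hsord : orderOf (y ^ p) = 2 := by
    haveI : Fact (Nat.Prime 2) := ⟨Nat.prime_two⟩
    exact orderOf_eq_prime hs2 hs1
  have hxs : Commute x (y ^ p) := (hcomm _ hsC).symm
  have hcord : orderOf (x * y ^ p) = 2 * p := by
    rw [hxs.orderOf_mul_eq_mul_orderOf_of_coprime (by rw [hxord, hsord]; exact hcop), hxord, hsord,
      mul_comm]
  apply hnot2
  apply hreg2 (x * y ^ p) hcord
  intro j hj0 hj2 a
  rw [hxs.mul_pow]
  obtain ⟨m, hm | hm⟩ := Nat.even_or_odd' j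
  · have h1 : (y ^ p) ^ j = 1 := by rw [hm, pow_mul, hs2, one_pow]
    rw [h1, mul_one]
    apply hfree
    intro hdvd
    rw [hm] at hdvd
    have h2 : p ∣ m := (Nat.Coprime.dvd_mul_left hcop).mp hdvd
    have hm0 : 0 < m := by omega
    have hmp : m < p := by omega
    exact Nat.not_dvd_of_pos_of_lt hm0 hmp h2
  · have h1 : (y ^ p) ^ j = y ^ p := by rw [hm, pow_succ, pow_mul, hs2, one_pow, one_mul]
    rw [h1, mul_smul]
    intro h
    exact hsa a (w2p_cent_same_symm hp0 hxp ⟨j, h⟩)

end main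

end Cfsg.Agent.W2P
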