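/-
S0720 project (Wielandt, primitive groups of degree 2p), file W2a (helper3).
`w2p_regcyc`: a primitive permutation group of degree `2p` containing a regular cyclic subgroup is
2-transitive.  Elementary proof (Schur's method by hand) on the landed Higman criterion S0734:
label the points by `ZMod (2m)`; every non-trivial suborbit contains an odd label; the numbers
`#{k ∈ T | u - k ∈ T}` are constant on suborbits and even on odd labels, hence `v ∈ T ↔ v + m ∈ T`
off `{0, m}`; a suborbit avoiding `m` would be `m`-periodic, which contradicts primitivity.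
-/
import Mathlib
import Cfsg.Agent.S0734

set_option autoImplicit false

universe u

namespace Cfsg.Agent.W2P

open MulAction

/-- a function constant along the edges of a connected graph is constant -/
theorem w2p_rc_conn_const {V : Type*} {Γ : SimpleGraph V} (hΓ : Γ.Connected) {β : Type*} (f : V → β)
    (h : ∀ x y, Γ.Adj x y → f x = f y) (x y : V) : f x = f y := by
  obtain ⟨w⟩ := hΓ.preconnected x y
  induction w with
  | nil => rfl
  | cons hadj _ ih => exact (h _ _ hadj).trans ih

theorem w2p_rc_half_ne {m : ℕ} [NeZero m] : ((m : ℕ) : ZMod (2 * m)) ≠ 0 := by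
  intro h
  rw [ZMod.natCast_eq_zero_iff] at h
  have := NeZero.pos m
  have := Nat.le_of_dvd this h
  omega

theorem w2p_rc_half_add {m : ℕ} : ((m : ℕ) : ZMod (2 * m)) + (m : ℕ) = 0 := by
  have : ((2 * m : ℕ) : ZMod (2 * m)) = 0 := ZMod.natCast_self _
  rw [← this]; push_cast; ring

theorem w2p_rc_two_mul {m : ℕ} [NeZero m] (d : ZMod (2 * m)) (h : 2 * d = 0) :
    d = 0 ∨ d = ((m : ℕ) : ZMod (2 * m)) := by
  have hm := NeZero.pos m
  have : NeZero (2 * m) := ⟨by omega⟩
  have hd : ((d.val : ℕ) : ZMod (2 * m)) = d := ZMod.natCast_zmod_val d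
  have hlt : d.val < 2 * m := ZMod.val_lt d
  have h2 : ((2 * d.val : ℕ) : ZMod (2 * m)) = 0 := by
    push_cast; rw [hd]; exact h
  rw [ZMod.natCast_eq_zero_iff] at h2
  have h3 : m ∣ d.val := (Nat.mul_dvd_mul_iff_left (by norm_num : 0 < 2)).mp h2
  obtain ⟨j, hj⟩ := h3
  have hj2 : j < 2 := by
    by_contra hcon
    push Not at hcon
    have : m * 2 ≤ m * j := Nat.mul_le_mul_left m hcon
    omega
  interval_cases j
  · left; rw [← hd, hj]; simp
  · right; rw [← hd, hj]; simp

theorem w2p_rc_zmod2 (z : ZMod 2) (h : z ≠ 1) : z = 0 := by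
  revert z; decide

/-- every non-trivial suborbit contains a point with an odd label -/
theorem w2p_rc_odd {G : Type*} [Group G] {α : Type*} [Finite α] [MulAction G α] {m : ℕ} [NeZero m]
    (hprim : IsPreprimitive G α) (e : ZMod (2 * m) ≃ α)
    (htr : ∀ k, ∃ g : G, ∀ l, e (k + l) = g • e l) (x : α) (hx : x ≠ e 0) :
    ∃ h : G, h • e 0 = e 0 ∧
      ZMod.castHom (dvd_mul_right 2 m) (ZMod 2) (e.symm (h • x)) = 1 := by
  classical
  by_contra hcon
  push Not at hcon
  have hm := NeZero.pos m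
  have : Fact (1 < 2 * m) := ⟨by omega⟩
  have : Nontrivial α := e.symm.nontrivial
  have : IsPretransitive G α := hprim.toIsPretransitive
  have hconn := (Cfsg.Agent.S0734.result (G := G) (Ω := α)).mp hprim (e 0) x (Ne.symm hx)
  set par := ZMod.castHom (dvd_mul_right 2 m) (ZMod 2) with hpar
  have key : ∀ (g : G) (y y' : α), g • e 0 = y → g • x = y' →
      par (e.symm y') = par (e.symm y) := by
    intro g y y' hy hy'
    obtain ⟨g₀, hg₀⟩ := htr (e.symm y)
    have h0 : g₀ • e 0 = y := by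
      have := hg₀ 0
      rw [add_zero, Equiv.apply_symm_apply] at this
      exact this.symm
    have hfix : (g₀⁻¹ * g) • e 0 = e 0 := by
      rw [mul_smul, hy, ← h0, inv_smul_smul]
    have hw := hcon (g₀⁻¹ * g) hfix
    have hw0 := w2p_rc_zmod2 _ hw
    have hy'' : y' = e (e.symm y + e.symm ((g₀⁻¹ * g) • x)) := by
      rw [hg₀, Equiv.apply_symm_apply, mul_smul, hy', smul_inv_smul]
    rw [hy'', Equiv.symm_apply_apply, map_add, hw0, add_zero]
  have hconst := w2p_rc_conn_const hconn (fun y => par (e.symm y)) (by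
    intro y y' hadj
    rw [SimpleGraph.fromRel_adj] at hadj
    rcases hadj.2 with ⟨g, h1, h2⟩ | ⟨g, h1, h2⟩
    · exact (key g y y' h1 h2).symm
    · exact key g y' y h1 h2) (e 0) (e 1)
  simp only [Equiv.symm_apply_apply, map_zero, map_one] at hconst
  exact absurd hconst (by decide)

/-- the labelling of the points by `ZMod (2m)` given by a regular cyclic subgroup -/
theorem w2p_rc_label {G : Type*} [Group G] {α : Type*} [Fintype α] [MulAction G α] {m : ℕ} [NeZero m]
    (hα : Fintype.card α = 2 * m) (c : G) (hc : c ^ (2 * m) = 1)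
    (hreg : ∀ k : ℕ, 0 < k → k < 2 * m → ∀ a : α, c ^ k • a ≠ a) (a₀ : α) :
    ∃ e : ZMod (2 * m) ≃ α, e 0 = a₀ ∧ ∀ k l, e (k + l) = c ^ k.val • e l := by
  have hm := NeZero.pos m
  have : NeZero (2 * m) := ⟨by omega⟩
  have hinj' : ∀ k l : ZMod (2 * m), k.val ≤ l.val → c ^ k.val • a₀ = c ^ l.val • a₀ → k = l := by
    intro k l hkl h
    have h1 : c ^ l.val = c ^ k.val * c ^ (l.val - k.val) := by
      rw [← pow_add]; congr 1; omega
    rw [h1, mul_smul] at h
    have h2 : c ^ (l.val - k.val) • a₀ = a₀ := (smul_left_cancel _ h).symm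
    have hlt : l.val < 2 * m := ZMod.val_lt l
    by_contra hne
    have hne' : k.val ≠ l.val := fun h => hne (ZMod.val_injective _ h)
    exact hreg (l.val - k.val) (by omega) (by omega) a₀ h2
  have hinj : Function.Injective (fun k : ZMod (2 * m) => c ^ k.val • a₀) := by
    intro k l h
    rcases le_total k.val l.val with hkl | hkl
    · exact hinj' k l hkl h
    · exact (hinj' l k hkl h.symm).symm
  have hbij : Function.Bijective (fun k : ZMod (2 * m) => c ^ k.val • a₀) := by
    rw [Fintype.bijective_iff_injective_and_card]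
    exact ⟨hinj, by rw [ZMod.card, hα]⟩
  refine ⟨Equiv.ofBijective _ hbij, ?_, ?_⟩
  · simp [Equiv.ofBijective_apply, ZMod.val_zero]
  · intro k l
    simp only [Equiv.ofBijective_apply]
    rw [ZMod.val_add, ← pow_eq_pow_mod _ hc, pow_add, mul_smul]

/-- an invariant relation is invariant in both directions -/
theorem w2p_rc_inv_iff {G : Type*} [Group G] {α : Type*} [MulAction G α] (E : α → α → Prop)
    (hE : ∀ (g : G) x y, E x y → E (g • x) (g • y)) (g : G) (x y : α) :
    E (g • x) (g • y) ↔ E x y := by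
  refine ⟨fun h => ?_, hE g x y⟩
  have := hE g⁻¹ _ _ h
  rwa [inv_smul_smul, inv_smul_smul] at this

/-- an invariant relation only depends on the difference of the labels -/
theorem w2p_rc_E_iff {G : Type*} [Group G] {α : Type*} [MulAction G α] {m : ℕ}
    (e : ZMod (2 * m) ≃ α) (htr : ∀ k, ∃ g : G, ∀ l, e (k + l) = g • e l)
    (E : α → α → Prop) (hE : ∀ (g : G) x y, E x y → E (g • x) (g • y)) (u w : ZMod (2 * m)) :
    E (e u) (e w) ↔ E (e 0) (e (w - u)) := by
  obtain ⟨g, hg⟩ := htr u
  have h0 : e u = g • e 0 := by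
    have := hg 0
    rwa [add_zero] at this
  have h1 : e w = g • e (w - u) := by
    rw [← hg]; congr 1; ring
  rw [h0, h1, w2p_rc_inv_iff E hE]

/-- a set stable under `k ↦ u - k` has an even number of points off the fixed points -/
theorem w2p_rc_invol_even {m : ℕ} (S : Finset (ZMod (2 * m))) (u : ZMod (2 * m))
    (hS : ∀ k ∈ S, u - k ∈ S) : Even (S.filter (fun k => 2 * k ≠ u)).card := by
  classical
  have h := Finset.sum_involution (s := S.filter (fun k => 2 * k ≠ u)) (f := fun _ => (1 : ZMod 2))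
    (fun k _ => u - k) (by intro a ha; decide)
    (by
      intro a ha _ hfix
      rw [Finset.mem_filter] at ha
      apply ha.2
      have : 2 * a = (u - a) + a := by rw [hfix]; ring
      rw [this]; ring)
    (by
      intro a ha
      rw [Finset.mem_filter] at ha ⊢
      refine ⟨hS a ha.1, ?_⟩
      intro h2
      apply ha.2
      have : 2 * a = 2 * u - 2 * (u - a) := by ring
      rw [this, h2]; ring)
    (by intro a ha; ring)
  rw [Finset.sum_const, nsmul_one] at h
  exact ZMod.natCast_eq_zero_iff_even.mp h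

/-- the key step: off `{0, m}` a suborbit-union `T` satisfies `v ∈ T ↔ v + m ∈ T` -/
theorem w2p_rc_shift {G : Type*} [Group G] {α : Type*} [MulAction G α] {m : ℕ} [NeZero m]
    (e : ZMod (2 * m) ≃ α) (htr : ∀ k, ∃ g : G, ∀ l, e (k + l) = g • e l)
    (hodd : ∀ x, x ≠ e 0 → ∃ h : G, h • e 0 = e 0 ∧
      ZMod.castHom (dvd_mul_right 2 m) (ZMod 2) (e.symm (h • x)) = 1)
    (E : α → α → Prop) (hE : ∀ (g : G) x y, E x y → E (g • x) (g • y))
    (v : ZMod (2 * m)) (hv : 2 * v ≠ 0) :
    E (e 0) (e v) ↔ E (e 0) (e (v + ((m : ℕ) : ZMod (2 * m)))) := by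
  classical
  have hm := NeZero.pos m
  have : NeZero (2 * m) := ⟨by omega⟩
  obtain ⟨par, hpar⟩ : ∃ par : ZMod (2 * m) →+* ZMod 2,
      par = ZMod.castHom (dvd_mul_right 2 m) (ZMod 2) := ⟨_, rfl⟩
  rw [← hpar] at hodd
  obtain ⟨T, hT⟩ : ∃ T : ZMod (2 * m) → Prop, ∀ k, T k ↔ E (e 0) (e k) :=
    ⟨fun k => E (e 0) (e k), fun _ => Iff.rfl⟩
  rw [← hT, ← hT]
  have hEiff : ∀ u w, E (e u) (e w) ↔ T (w - u) := by
    intro u w; rw [hT]; exact w2p_rc_E_iff e htr E hE u w
  obtain ⟨S, hmemS⟩ : ∃ S : ZMod (2 * m) → Finset (ZMod (2 * m)),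
      ∀ u k, k ∈ S u ↔ T k ∧ T (u - k) :=
    ⟨fun u => Finset.univ.filter (fun k => T k ∧ T (u - k)), by intro u k; simp⟩
  -- (1) invariance under the stabiliser
  have hinv : ∀ (u u' : ZMod (2 * m)) (h : G), h • e 0 = e 0 → h • e u = e u' →
      (S u).card = (S u').card := by
    intro u u' h h0 hu
    refine Finset.card_equiv (e.trans ((MulAction.toPerm h).trans e.symm)) ?_
    intro k
    have hk : e ((e.trans ((MulAction.toPerm h).trans e.symm)) k) = h • e k := by simp
    rw [hmemS, hmemS]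
    have h1 : T k ↔ T ((e.trans ((MulAction.toPerm h).trans e.symm)) k) := by
      rw [hT, hT, hk]
      conv_rhs => rw [← h0]
      exact (w2p_rc_inv_iff E hE h _ _).symm
    have h2 : T (u - k) ↔ T (u' - (e.trans ((MulAction.toPerm h).trans e.symm)) k) := by
      rw [← hEiff, ← hEiff, hk, ← hu]
      exact (w2p_rc_inv_iff E hE h _ _).symm
    rw [h1, h2]
  -- (2) parity
  have hparS : ∀ u, Even ((S u).filter (fun k => 2 * k ≠ u)).card := fun u =>
    w2p_rc_invol_even (S u) u (by
      intro k hk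
      rw [hmemS] at hk ⊢
      exact ⟨hk.2, by rw [sub_sub_cancel]; exact hk.1⟩)
  have hsplit : ∀ u, (S u).card = ((S u).filter (fun k => 2 * k = u)).card +
      ((S u).filter (fun k => 2 * k ≠ u)).card := by
    intro u
    exact (Finset.card_filter_add_card_filter_not (s := S u) (fun k => 2 * k = u)).symm
  have hpar2 : par 2 = 0 := by
    rw [map_ofNat]; rfl
  -- (3) odd labels
  have hoddEven : ∀ u, par u = 1 → Even (S u).card := by
    intro u hu
    rw [hsplit]
    have : (S u).filter (fun k => 2 * k = u) = ∅ := by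
      rw [Finset.filter_eq_empty_iff]
      intro k _ h2
      have h3 := congrArg par h2
      rw [map_mul, hpar2, zero_mul, hu] at h3
      exact absurd h3 (by decide)
    rw [this, Finset.card_empty, zero_add]
    exact hparS u
  -- (4) all non-zero labels
  have hallEven : ∀ u, u ≠ 0 → Even (S u).card := by
    intro u hu
    obtain ⟨h, h0, h1⟩ := hodd (e u) (fun h => hu (e.injective h))
    rw [hinv u (e.symm (h • e u)) h h0 (by simp)]
    exact hoddEven _ h1
  -- (5) the fixed points of the involution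
  have hfixEven : ∀ u, u ≠ 0 → Even ((S u).filter (fun k => 2 * k = u)).card := by
    intro u hu
    have h1 := hallEven u hu
    rw [hsplit] at h1
    exact (Nat.even_add.mp h1).mpr (hparS u)
  -- (6) the two solutions of `2 k = 2 v`
  have h6 := hfixEven (2 * v) hv
  have hmemF : ∀ k, k ∈ (S (2 * v)).filter (fun k => 2 * k = 2 * v) ↔
      T k ∧ (k = v ∨ k = v + ((m : ℕ) : ZMod (2 * m))) := by
    intro k
    rw [Finset.mem_filter, hmemS]
    constructor
    · rintro ⟨⟨h1, _⟩, h2⟩
      refine ⟨h1, ?_⟩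
      have : 2 * (k - v) = 0 := by rw [mul_sub, h2, sub_self]
      rcases w2p_rc_two_mul _ this with h | h
      · left; exact sub_eq_zero.mp h
      · right; rw [← h]; ring
    · rintro ⟨h1, h2⟩
      have h2k : 2 * k = 2 * v := by
        rcases h2 with rfl | rfl
        · rfl
        · rw [mul_add, two_mul ((m : ℕ) : ZMod (2 * m)), w2p_rc_half_add, add_zero]
      refine ⟨⟨h1, ?_⟩, h2k⟩
      have : 2 * v - k = k := by rw [← h2k]; ring
      rw [this]; exact h1
  have hvne : v ≠ v + ((m : ℕ) : ZMod (2 * m)) := by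
    intro h
    exact w2p_rc_half_ne (left_eq_add.mp h)
  by_contra hne
  by_cases hTv : T v
  · have hTm : ¬ T (v + ((m : ℕ) : ZMod (2 * m))) := fun h => hne ⟨fun _ => h, fun _ => hTv⟩
    have : (S (2 * v)).filter (fun k => 2 * k = 2 * v) = {v} := by
      ext k
      rw [hmemF, Finset.mem_singleton]
      constructor
      · rintro ⟨h1, rfl | rfl⟩
        · rfl
        · exact absurd h1 hTm
      · rintro rfl
        exact ⟨hTv, Or.inl rfl⟩
    rw [this, Finset.card_singleton] at h6
    exact absurd h6 (by decide)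
  · have hTm : T (v + ((m : ℕ) : ZMod (2 * m))) := by
      by_contra h
      exact hne ⟨fun h' => absurd h' hTv, fun h' => absurd h' h⟩
    have : (S (2 * v)).filter (fun k => 2 * k = 2 * v) = {v + ((m : ℕ) : ZMod (2 * m))} := by
      ext k
      rw [hmemF, Finset.mem_singleton]
      constructor
      · rintro ⟨h1, rfl | rfl⟩
        · exact absurd h1 hTv
        · rfl
      · rintro rfl
        exact ⟨hTm, Or.inr rfl⟩
    rw [this, Finset.card_singleton] at h6
    exact absurd h6 (by decide)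

/-- a non-trivial suborbit-union which is `m`-shift invariant off `{0, m}` contains `m` -/
theorem w2p_rc_half {G : Type*} [Group G] {α : Type*} [Finite α] [MulAction G α] {m : ℕ} [NeZero m]
    (hprim : IsPreprimitive G α) (e : ZMod (2 * m) ≃ α)
    (htr : ∀ k, ∃ g : G, ∀ l, e (k + l) = g • e l)
    (E : α → α → Prop) (hE : ∀ (g : G) x y, E x y → E (g • x) (g • y)) (hirr : ∀ x, ¬ E x x)
    (b : α) (hb : E (e 0) b)
    (hshift : ∀ v : ZMod (2 * m), 2 * v ≠ 0 →
      (E (e 0) (e v) ↔ E (e 0) (e (v + ((m : ℕ) : ZMod (2 * m)))))) :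
    E (e 0) (e ((m : ℕ) : ZMod (2 * m))) := by
  classical
  by_contra hmT
  have hm := NeZero.pos m
  have : Fact (1 < 2 * m) := ⟨by omega⟩
  have : Nontrivial α := e.symm.nontrivial
  have : IsPretransitive G α := hprim.toIsPretransitive
  obtain ⟨T, hT⟩ : ∃ T : ZMod (2 * m) → Prop, ∀ k, T k ↔ E (e 0) (e k) :=
    ⟨fun k => E (e 0) (e k), fun _ => Iff.rfl⟩
  have hEiff : ∀ u w, E (e u) (e w) ↔ T (w - u) := by
    intro u w; rw [hT]; exact w2p_rc_E_iff e htr E hE u w
  have hT0 : ¬ T 0 := by rw [hT]; exact hirr _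
  have hTm : ¬ T ((m : ℕ) : ZMod (2 * m)) := by rw [hT]; exact hmT
  have hall : ∀ v, T v ↔ T (v + ((m : ℕ) : ZMod (2 * m))) := by
    intro v
    by_cases hv : 2 * v = 0
    · rcases w2p_rc_two_mul v hv with rfl | rfl
      · rw [zero_add]; exact ⟨fun h => absurd h hT0, fun h => absurd h hTm⟩
      · rw [w2p_rc_half_add]; exact ⟨fun h => absurd h hTm, fun h => absurd h hT0⟩
    · rw [hT, hT]; exact hshift v hv
  obtain ⟨gm, hgm⟩ := htr ((m : ℕ) : ZMod (2 * m))
  have hR : ∀ x z : α, E x z ↔ E (gm • x) z := by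
    intro x z
    obtain ⟨u, rfl⟩ := e.surjective x
    obtain ⟨w, rfl⟩ := e.surjective z
    rw [← hgm, hEiff, hEiff, hall (w - (((m : ℕ) : ZMod (2 * m)) + u))]
    have : w - (((m : ℕ) : ZMod (2 * m)) + u) + ((m : ℕ) : ZMod (2 * m)) = w - u := by ring
    rw [this]
  have hne : e 0 ≠ e ((m : ℕ) : ZMod (2 * m)) := fun h => w2p_rc_half_ne (e.injective h).symm
  have hconn := (Cfsg.Agent.S0734.result (G := G) (Ω := α)).mp hprim (e 0) _ hne
  have hem : e ((m : ℕ) : ZMod (2 * m)) = gm • e 0 := by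
    have := hgm 0
    rwa [add_zero] at this
  have key : ∀ (g : G) (x y : α), g • e 0 = x → g • e ((m : ℕ) : ZMod (2 * m)) = y →
      {z | E x z} = {z | E y z} := by
    intro g x y hx hy
    ext z
    change E x z ↔ E y z
    rw [← hx, ← hy]
    have hz : z = g • (g⁻¹ • z) := (smul_inv_smul g z).symm
    rw [hz, w2p_rc_inv_iff E hE, w2p_rc_inv_iff E hE, hem]
    exact hR _ _
  have hconst := w2p_rc_conn_const hconn (fun x => {z | E x z}) (by
    intro y y' hadj
    rw [SimpleGraph.fromRel_adj] at hadj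
    rcases hadj.2 with ⟨g, h1, h2⟩ | ⟨g, h1, h2⟩
    · exact key g y y' h1 h2
    · exact (key g y' y h1 h2).symm) (e 0) b
  have : b ∈ {z | E (e 0) z} := hb
  rw [hconst] at this
  exact hirr b this

/-- in a primitive group with a regular cyclic subgroup of even order `2m`, the stabiliser of `e 0`
moves every other point to the antipode `e m` -/
theorem w2p_rc_core {G : Type*} [Group G] {α : Type*} [Finite α] [MulAction G α] {m : ℕ} [NeZero m]
    (hprim : IsPreprimitive G α) (e : ZMod (2 * m) ≃ α)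
    (htr : ∀ k, ∃ g : G, ∀ l, e (k + l) = g • e l) (b : α) (hb : b ≠ e 0) :
    ∃ h : G, h • e 0 = e 0 ∧ h • b = e ((m : ℕ) : ZMod (2 * m)) := by
  have hodd := w2p_rc_odd hprim e htr
  have hE : ∀ (g : G) (x y : α), (∃ g' : G, g' • e 0 = x ∧ g' • b = y) →
      (∃ g' : G, g' • e 0 = g • x ∧ g' • b = g • y) := by
    rintro g x y ⟨g', h1, h2⟩
    exact ⟨g * g', by rw [mul_smul, h1], by rw [mul_smul, h2]⟩
  exact w2p_rc_half hprim e htr (fun x y => ∃ g' : G, g' • e 0 = x ∧ g' • b = y) hE
    (by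
      rintro x ⟨g', h1, h2⟩
      exact hb (smul_left_cancel g' (h2.trans h1.symm)))
    b ⟨1, one_smul _ _, one_smul _ _⟩
    (fun v hv => w2p_rc_shift e htr hodd _ hE v hv)

/-- **Burnside/Schur for degree `2p`**: a primitive permutation group of degree `2p` containing a
regular cyclic subgroup is 2-transitive. -/
theorem w2p_regcyc {α : Type u} [Fintype α] [DecidableEq α] {p : ℕ} [Fact p.Prime] (hp2 : p ≠ 2)
    (hα : Fintype.card α = 2 * p) (G : Subgroup (Equiv.Perm α))
    (hprim : MulAction.IsPreprimitive G α)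
    (c : G) (hc : orderOf c = 2 * p)
    (hreg : ∀ k : ℕ, 0 < k → k < 2 * p → ∀ a : α, (c ^ k) • a ≠ a) :
    MulAction.IsMultiplyPretransitive G α 2 := by
  have hp := (Fact.out : p.Prime)
  have : NeZero p := ⟨hp.ne_zero⟩
  have hα0 : 0 < Fintype.card α := by rw [hα]; have := hp.pos; omega
  obtain ⟨a₀⟩ : Nonempty α := Fintype.card_pos_iff.mp hα0
  have hcpow : c ^ (2 * p) = 1 := by rw [← hc]; exact pow_orderOf_eq_one c
  obtain ⟨e, he0, hadd⟩ := w2p_rc_label hα c hcpow hreg a₀
  have htr : ∀ k, ∃ g : G, ∀ l, e (k + l) = g • e l := fun k => ⟨c ^ k.val, hadd k⟩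
  have hcore := w2p_rc_core hprim e htr
  have : IsPretransitive G α := hprim.toIsPretransitive
  rw [MulAction.is_two_pretransitive_iff]
  intro a b c' d hab hcd
  obtain ⟨g₁, hg₁⟩ := MulAction.exists_smul_eq G a (e 0)
  obtain ⟨g₂, hg₂⟩ := MulAction.exists_smul_eq G c' (e 0)
  obtain ⟨h₁, h₁0, h₁b⟩ := hcore (g₁ • b) (by
    rw [← hg₁]; exact fun h => hab (smul_left_cancel g₁ h).symm)
  obtain ⟨h₂, h₂0, h₂b⟩ := hcore (g₂ • d) (by
    rw [← hg₂]; exact fun h => hcd (smul_left_cancel g₂ h).symm)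
  refine ⟨(h₂ * g₂)⁻¹ * (h₁ * g₁), ?_, ?_⟩
  · rw [mul_smul, mul_smul, hg₁, h₁0, inv_smul_eq_iff, mul_smul, hg₂, h₂0]
  · rw [mul_smul, mul_smul, h₁b, inv_smul_eq_iff, mul_smul, h₂b]

end Cfsg.Agent.W2P
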