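/-
S0720 (Wielandt, degree 2p), W2 part 2 (helper4): `w2p_cent`, the frozen header of
notes/S0720_helper3.md, from `w2p_cent_core` (W2P/CentCore.lean) and `w2p_regcyc` (W2P/RegCyc.lean).
-/
import Mathlib
import Cfsg.Agent.W2P.RegCyc
import Cfsg.Agent.W2P.CentCore

set_option autoImplicit false

namespace Cfsg.Agent.W2P

universe u

/-- S0720 W2: the centraliser of the Sylow `p`-subgroup is the Sylow `p`-subgroup -/
theorem w2p_cent {α : Type u} [Fintype α] [DecidableEq α] {p : ℕ} [Fact p.Prime] (hp2 : p ≠ 2)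
    (hα : Fintype.card α = 2 * p) (G : Subgroup (Equiv.Perm α)) (hprim : MulAction.IsPreprimitive G α)
    (hnot2 : ¬ MulAction.IsMultiplyPretransitive G α 2) (P : Sylow p G) (hP : Nat.card (P : Subgroup G) = p)
    (hfix : ∀ x : G, x ∈ (P : Subgroup G) → x ≠ 1 → Nat.card (MulAction.fixedBy α x) = 0) :
    Subgroup.centralizer ((P : Subgroup G) : Set G) ≤ (P : Subgroup G) :=
  w2p_cent_core hp2 hα G (fun c hc hr => w2p_regcyc hp2 hα G hprim c hc hr) hnot2 P hP hfix

end Cfsg.Agent.W2P
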