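import Mathlib
import Cfsg.Prelude.Def_Characters
import Cfsg.Agent.Helper6.Linear
import Cfsg.Agent.Helper6.ClassInner
import Cfsg.Agent.Helper6.PrincipalDefect

/-!
# S0720, auxiliary file (helper9): no non-trivial linear constituent, character form

For a permutation group `G` on `α` in which no proper normal subgroup contains a point stabiliser
(the sixth item of `w2p_front`), the permutation character `π` has no non-trivial linear
constituent: `⟨π, χ⟩ = 0` for every irreducible `χ ≠ 1` of degree `1`.  This is the hypothesis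
`hlin` of `w2p_tricho`.

Proof: `χ` comes from a homomorphism `μ : G →* ℂˣ`; `∑_g π(g) conj χ(g) = ∑_a ∑_{g ∈ G_a} conj μ(g)`
and every inner sum vanishes unless `G_a ≤ ker μ`, which forces `ker μ = ⊤`, `χ = 1`.
-/

set_option autoImplicit false
set_option linter.style.haveILetI false

namespace Cfsg.Agent.W2P

open Cfsg Cfsg.Agent.Helper6 MulAction
open scoped ComplexConjugate

universe u

/-- the number of fixed points as a sum of indicators -/
theorem w2p_nolin_card {α : Type u} [Fintype α] [DecidableEq α] {H : Type*} [Group H]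
    [MulAction H α] (g : H) :
    (Nat.card (fixedBy α g) : ℂ) = ∑ a : α, if g • a = a then (1 : ℂ) else 0 := by
  classical
  rw [Nat.card_eq_fintype_card, Fintype.card_subtype, Finset.card_filter]
  push_cast
  apply Finset.sum_congr rfl
  intro a _
  simp only [mem_fixedBy]

/-- **no non-trivial linear constituent** (character form; `hM` is the sixth item of `w2p_front`) -/
theorem w2p_nolin {α : Type u} [Fintype α] [DecidableEq α] (G : Subgroup (Equiv.Perm α))
    [Fintype ↥G]
    (hM : ∀ (a₀ : α) (M : Subgroup ↥G), M.Normal → MulAction.stabilizer ↥G a₀ ≤ M → M = ⊤)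
    (χ : IrrCharacter ↥G) (hχ1 : (χ : ↥G → ℂ) 1 = 1) (hne : χ ≠ trivIrr ↥G) :
    classInner (fun g : ↥G => (Nat.card (MulAction.fixedBy α g) : ℂ)) (χ : ↥G → ℂ) = 0 := by
  classical
  obtain ⟨μ, hμ⟩ := exists_hom_of_irr_degree_one χ.2 hχ1
  -- the conjugate homomorphism to `ℂ`
  obtain ⟨ν, hν⟩ : ∃ ν : ↥G →* ℂ, ∀ g, ν g = conj ((χ : ↥G → ℂ) g) := by
    refine ⟨((starRingEnd ℂ : ℂ →+* ℂ) : ℂ →* ℂ).comp ((Units.coeHom ℂ).comp μ), ?_⟩
    intro g
    rw [hμ]
    rfl
  rw [classInner_def]
  have hsum : ∑ g : ↥G, (Nat.card (fixedBy α g) : ℂ) * conj ((χ : ↥G → ℂ) g) = 0 := by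
    simp_rw [w2p_nolin_card, Finset.sum_mul]
    rw [Finset.sum_comm]
    apply Finset.sum_eq_zero
    intro a _
    have h2 : ∑ g : ↥G, (if g • a = a then (1 : ℂ) else 0) * conj ((χ : ↥G → ℂ) g) =
        ∑ g : stabilizer ↥G a, (ν.comp (stabilizer ↥G a).subtype) g := by
      simp_rw [ite_mul, one_mul, zero_mul]
      rw [← Finset.sum_filter]
      rw [Finset.sum_subtype (p := fun g : ↥G => g ∈ stabilizer ↥G a)
        (Finset.univ.filter (fun g : ↥G => g • a = a))
        (fun x => by simp [mem_stabilizer_iff]) (fun g => conj ((χ : ↥G → ℂ) g))]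
      apply Finset.sum_congr rfl
      intro g _
      rw [MonoidHom.comp_apply, hν]
      rfl
    rw [h2]
    apply sum_hom_units_eq_zero
    intro h1
    -- then the stabiliser lies in the kernel of `μ`
    apply hne
    have hle : stabilizer ↥G a ≤ μ.ker := by
      intro g hg
      rw [MonoidHom.mem_ker]
      have h3 : (ν.comp (stabilizer ↥G a).subtype) ⟨g, hg⟩ = 1 := by
        rw [h1]
        rfl
      rw [MonoidHom.comp_apply, hν] at h3
      have h4 : (χ : ↥G → ℂ) g = 1 := by
        have h5 := congrArg conj h3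
        rw [Complex.conj_conj, map_one] at h5
        exact h5
      rw [hμ] at h4
      exact Units.ext h4
    have htop := hM a μ.ker (MonoidHom.normal_ker μ) hle
    apply Subtype.ext
    show (χ : ↥G → ℂ) = fun _ => (1 : ℂ)
    rw [hμ]
    funext g
    have hg : g ∈ μ.ker := by
      rw [htop]
      exact Subgroup.mem_top g
    rw [MonoidHom.mem_ker] at hg
    rw [hg]
    rfl
  rw [hsum, mul_zero]

end Cfsg.Agent.W2P
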