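import Mathlib

/-!
# S0720, file W3 (helper1), part 1: the combinatorial core of the block trichotomy

Pure arithmetic of finite sums of natural numbers; no groups.

* `w2p_sum_eq_one`, `w2p_sum_eq_two` : shapes of a finite sum of naturals equal to `1`, `2`.
* `w2p_tri_core` : the trichotomy on abstract multiplicities `m`, `p`-quotients `a` and signs `c`.
-/

set_option autoImplicit false

namespace Cfsg.Agent.W2P

/-- a finite sum of naturals equal to `1` -/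
theorem w2p_sum_eq_one {ι : Type*} [DecidableEq ι] (W : Finset ι) (F : ι → ℕ)
    (h : ∑ i ∈ W, F i = 1) :
    ∃ i ∈ W, F i = 1 ∧ ∀ j ∈ W, j ≠ i → F j = 0 := by
  have hex : ∃ i ∈ W, F i ≠ 0 := by
    by_contra hcon
    push Not at hcon
    rw [Finset.sum_eq_zero hcon] at h
    omega
  obtain ⟨i, hi, hFi⟩ := hex
  have h2 := Finset.add_sum_erase W F hi
  rw [h] at h2
  have h3 : ∑ j ∈ W.erase i, F j = 0 := by omega
  refine ⟨i, hi, by omega, fun j hj hne => ?_⟩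
  exact (Finset.sum_eq_zero_iff.mp h3) j (Finset.mem_erase.mpr ⟨hne, hj⟩)

/-- a finite sum of naturals equal to `2` -/
theorem w2p_sum_eq_two {ι : Type*} [DecidableEq ι] (W : Finset ι) (F : ι → ℕ)
    (h : ∑ i ∈ W, F i = 2) :
    (∃ i ∈ W, F i = 2 ∧ ∀ j ∈ W, j ≠ i → F j = 0) ∨
    (∃ i ∈ W, ∃ j ∈ W, i ≠ j ∧ F i = 1 ∧ F j = 1 ∧ ∀ k ∈ W, k ≠ i → k ≠ j → F k = 0) := by
  have hex : ∃ i ∈ W, F i ≠ 0 := by
    by_contra hcon
    push Not at hcon
    rw [Finset.sum_eq_zero hcon] at h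
    omega
  obtain ⟨i, hi, hFi⟩ := hex
  have h2 := Finset.add_sum_erase W F hi
  rw [h] at h2
  rcases (by omega : F i = 2 ∨ F i = 1) with h3 | h3
  · left
    have h4 : ∑ j ∈ W.erase i, F j = 0 := by omega
    refine ⟨i, hi, h3, fun j hj hne => ?_⟩
    exact (Finset.sum_eq_zero_iff.mp h4) j (Finset.mem_erase.mpr ⟨hne, hj⟩)
  · right
    have h4 : ∑ j ∈ W.erase i, F j = 1 := by omega
    obtain ⟨j, hj, hFj, hrest⟩ := w2p_sum_eq_one _ F h4
    exact ⟨i, hi, j, Finset.mem_of_mem_erase hj, (Finset.ne_of_mem_erase hj).symm, h3, hFj,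
      fun k hk hki hkj => hrest k (Finset.mem_erase.mpr ⟨hki, hk⟩) hkj⟩

/-- **the combinatorial core of the block trichotomy** -/
theorem w2p_tri_core {ι : Type*} [Fintype ι] [DecidableEq ι] (o : ι) (Yf W : Finset ι)
    (hWmem : ∀ ξ, ξ ∈ W ↔ ξ ≠ o ∧ ξ ∉ Yf) (ho : o ∉ Yf)
    (m a : ι → ℕ) (c : ι → ℤ) (ep : ℤ) (b aY : ℕ)
    (hep : ep = 1 ∨ ep = -1)
    (hc : ∀ ξ, c ξ = 1 ∨ c ξ = -1 ∨ c ξ = 0)
    (hao : a o = 0)
    (hmY : ∀ ξ ∈ Yf, m ξ = b) (haY : ∀ ξ ∈ Yf, a ξ = aY)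
    (hYne : 1 ≤ Yf.card)
    (haYneg : ep = -1 → 1 ≤ aY)
    (hW : ∀ ξ ∈ W, m ξ ≠ 0 → 1 ≤ a ξ)
    (hstar : 1 + ∑ ξ ∈ W, c ξ * (m ξ : ℤ) = ep * b)
    (hdeg : ((∑ ξ, m ξ * a ξ : ℕ) : ℤ) + ep * b = 2) :
    (∃ χ₁ ∈ W, ∃ θ ∈ W, χ₁ ≠ θ ∧ m χ₁ = 1 ∧ m θ = 1 ∧ a χ₁ = 1 ∧ a θ = 1 ∧ c χ₁ = -1 ∧ c θ = 0 ∧
      ∀ ξ, ξ ≠ o → ξ ≠ χ₁ → ξ ≠ θ → m ξ = 0) ∨
    (ep = 1 ∧ b = 1 ∧ aY = 0 ∧ ∃ θ ∈ W, m θ = 1 ∧ a θ = 1 ∧ c θ = 0 ∧
      ∀ ξ ∈ W, ξ ≠ θ → m ξ = 0) ∨
    (∃ ξ₀, ξ₀ ≠ o ∧ m ξ₀ = 1 ∧ ∀ ξ, ξ ≠ o → ξ ≠ ξ₀ → m ξ = 0) ∨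
    (ep = -1 ∧ b = 1 ∧ Yf.card = 1 ∧ aY = 1) := by
  -- the partition of the index set
  have hpart : ∑ ξ, m ξ * a ξ = Yf.card * (b * aY) + ∑ ξ ∈ W, m ξ * a ξ := by
    have h1 : (Finset.univ : Finset ι) = insert o (Yf ∪ W) := by
      ext ξ
      simp only [Finset.mem_univ, Finset.mem_insert, Finset.mem_union, true_iff, hWmem]
      by_cases h1 : ξ = o
      · left; exact h1
      · by_cases h2 : ξ ∈ Yf
        · right; left; exact h2
        · right; right; exact ⟨h1, h2⟩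
    have h2 : Disjoint Yf W := by
      rw [Finset.disjoint_left]
      intro ξ h1 h2
      exact ((hWmem ξ).1 h2).2 h1
    have h3 : o ∉ Yf ∪ W := by
      rw [Finset.mem_union, not_or]
      exact ⟨ho, fun h => ((hWmem o).1 h).1 rfl⟩
    rw [h1, Finset.sum_insert h3, Finset.sum_union h2, hao, mul_zero, zero_add,
      Finset.sum_congr rfl (fun ξ hξ => by rw [hmY ξ hξ, haY ξ hξ]), Finset.sum_const,
      smul_eq_mul]
  obtain ⟨R, hR⟩ : ∃ R : ℕ, R = ∑ ξ ∈ W, m ξ * a ξ := ⟨_, rfl⟩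
  obtain ⟨S, hS⟩ : ∃ S : ℤ, S = ∑ ξ ∈ W, c ξ * (m ξ : ℤ) := ⟨_, rfl⟩
  obtain ⟨K, hK⟩ : ∃ K : ℕ, K = Yf.card * (b * aY) := ⟨_, rfl⟩
  rw [hpart, ← hK, ← hR] at hdeg
  rw [← hS] at hstar
  push_cast at hdeg
  -- pointwise bounds
  have hpt : ∀ ξ ∈ W, c ξ * (m ξ : ℤ) ≤ ((m ξ * a ξ : ℕ) : ℤ) ∧
      -((m ξ * a ξ : ℕ) : ℤ) ≤ c ξ * (m ξ : ℤ) := by
    intro ξ hξ
    by_cases hm0 : m ξ = 0
    · rw [hm0]
      simp
    · have h1 : m ξ ≤ m ξ * a ξ := Nat.le_mul_of_pos_right _ (hW ξ hξ hm0)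
      have h2 : (m ξ : ℤ) ≤ ((m ξ * a ξ : ℕ) : ℤ) := by exact_mod_cast h1
      have h3 : (0 : ℤ) ≤ (m ξ : ℤ) := Int.natCast_nonneg _
      rcases hc ξ with h | h | h <;> rw [h] <;> constructor <;> linarith
  have hSle : S ≤ R ∧ -(R : ℤ) ≤ S := by
    rw [hS, hR]
    push_cast
    constructor
    · apply Finset.sum_le_sum
      intro ξ hξ
      have := (hpt ξ hξ).1
      push_cast at this
      exact this
    · rw [← Finset.sum_neg_distrib]
      apply Finset.sum_le_sum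
      intro ξ hξ
      have := (hpt ξ hξ).2
      push_cast at this
      exact this
  have hzero : ∀ ξ ∈ W, m ξ * a ξ = 0 → m ξ = 0 := by
    intro ξ hξ h0
    by_contra hm0
    have h1 := hW ξ hξ hm0
    rcases Nat.mul_eq_zero.mp h0 with h2 | h2
    · exact hm0 h2
    · omega
  have hone : ∀ ξ ∈ W, m ξ * a ξ = 1 → m ξ = 1 ∧ a ξ = 1 := fun ξ _ h1 =>
    ⟨Nat.eq_one_of_mul_eq_one_right h1, Nat.eq_one_of_mul_eq_one_left h1⟩
  rcases (by omega : b = 0 ∨ 1 ≤ b) with hb0 | hb1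
  · -- `b = 0`
    have hK0 : K = 0 := by rw [hK, hb0, zero_mul, mul_zero]
    rw [hb0] at hstar hdeg
    rw [hK0] at hdeg
    simp only [Nat.cast_zero, mul_zero, add_zero, zero_add] at hstar hdeg
    have hR2 : ∑ ξ ∈ W, m ξ * a ξ = 2 := by
      rw [← hR]
      exact_mod_cast hdeg
    have hS1 : S = -1 := by linarith
    rcases w2p_sum_eq_two W (fun ξ => m ξ * a ξ) hR2 with ⟨ξ₀, hξ₀, h2, hrest⟩ |
        ⟨χ₁, hχ₁, θ, hθ, hne, h1, h2, hrest⟩
    · -- one term equal to `2`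
      have hSval : S = c ξ₀ * (m ξ₀ : ℤ) := by
        rw [hS]
        apply Finset.sum_eq_single_of_mem ξ₀ hξ₀
        intro ξ hξ hne
        rw [hzero ξ hξ (hrest ξ hξ hne)]
        simp
      have hm12 : m ξ₀ = 1 ∨ m ξ₀ = 2 := by
        have h3 : m ξ₀ ∣ 2 := ⟨a ξ₀, h2.symm⟩
        have h4 := Nat.le_of_dvd (by norm_num) h3
        have h5 : m ξ₀ ≠ 0 := by
          intro h0
          simp only [h0, zero_mul] at h2
          omega
        omega
      rcases hm12 with h3 | h3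
      · right; right; left
        refine ⟨ξ₀, ((hWmem ξ₀).1 hξ₀).1, h3, fun ξ hξo hξne => ?_⟩
        by_cases hξY : ξ ∈ Yf
        · rw [hmY ξ hξY, hb0]
        · exact hzero ξ ((hWmem ξ).2 ⟨hξo, hξY⟩) (hrest ξ ((hWmem ξ).2 ⟨hξo, hξY⟩) hξne)
      · exfalso
        rw [hSval, h3] at hS1
        rcases hc ξ₀ with h | h | h <;> rw [h] at hS1 <;> norm_num at hS1
    · -- two terms equal to `1`
      obtain ⟨hm1, ha1⟩ := hone χ₁ hχ₁ h1
      obtain ⟨hm2, ha2⟩ := hone θ hθ h2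
      have hSval : S = c χ₁ * (m χ₁ : ℤ) + c θ * (m θ : ℤ) := by
        rw [hS]
        apply Finset.sum_eq_add_of_mem χ₁ θ hχ₁ hθ hne
        intro ξ hξ hne'
        rw [hzero ξ hξ (hrest ξ hξ hne'.1 hne'.2)]
        simp
      rw [hm1, hm2] at hSval
      simp only [Nat.cast_one, mul_one] at hSval
      have hsupp : ∀ x y : ι, x ∈ W → y ∈ W → x ≠ y → m x = 1 → m y = 1 →
          (∀ k ∈ W, k ≠ x → k ≠ y → m k * a k = 0) →
          ∀ ξ, ξ ≠ o → ξ ≠ x → ξ ≠ y → m ξ = 0 := by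
        intro x y _ _ _ _ _ hr ξ hξo hξx hξy
        by_cases hξY : ξ ∈ Yf
        · rw [hmY ξ hξY, hb0]
        · exact hzero ξ ((hWmem ξ).2 ⟨hξo, hξY⟩) (hr ξ ((hWmem ξ).2 ⟨hξo, hξY⟩) hξx hξy)
      left
      rcases hc χ₁ with hc1 | hc1 | hc1 <;> rcases hc θ with hc2 | hc2 | hc2 <;>
        rw [hc1, hc2] at hSval <;> try (exfalso; linarith)
      · exact ⟨χ₁, hχ₁, θ, hθ, hne, hm1, hm2, ha1, ha2, hc1, hc2,
          hsupp χ₁ θ hχ₁ hθ hne hm1 hm2 hrest⟩
      · exact ⟨θ, hθ, χ₁, hχ₁, hne.symm, hm2, hm1, ha2, ha1, hc2, hc1,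
          hsupp θ χ₁ hθ hχ₁ hne.symm hm2 hm1 (fun k hk h1 h2 => hrest k hk h2 h1)⟩
  · -- `1 ≤ b`
    rcases hep with hep1 | hep1
    · -- `ep = 1`
      rw [hep1] at hstar hdeg
      simp only [one_mul] at hstar hdeg
      have hb12 : b = 1 ∨ b = 2 := by omega
      rcases hb12 with hb | hb
      · -- `b = 1`
        rw [hb] at hstar hdeg
        have hS0 : S = 0 := by
          push_cast at hstar
          linarith
        have hKR : K + R = 1 := by
          push_cast at hdeg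
          omega
        have hKeq : K = Yf.card * aY := by rw [hK, hb, one_mul]
        rcases (by omega : R = 0 ∨ R = 1) with hR0 | hR1
        · -- `R = 0`: norm `2`
          right; right; left
          have hK1 : Yf.card * aY = 1 := by omega
          have hc1 : Yf.card = 1 := Nat.eq_one_of_mul_eq_one_right hK1
          obtain ⟨ξ₀, hξ₀⟩ := Finset.card_eq_one.mp hc1
          have hξ₀Y : ξ₀ ∈ Yf := by rw [hξ₀]; exact Finset.mem_singleton_self _
          refine ⟨ξ₀, fun he => ho (he ▸ hξ₀Y), by rw [hmY ξ₀ hξ₀Y, hb], fun ξ hξo hξne => ?_⟩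
          have hξY : ξ ∉ Yf := by
            rw [hξ₀, Finset.mem_singleton]
            exact hξne
          have hξW : ξ ∈ W := (hWmem ξ).2 ⟨hξo, hξY⟩
          apply hzero ξ hξW
          have h0 : ∑ ξ ∈ W, m ξ * a ξ = 0 := by rw [← hR, hR0]
          exact (Finset.sum_eq_zero_iff.mp h0) ξ hξW
        · -- `R = 1`
          right; left
          have hK0 : Yf.card * aY = 0 := by omega
          have haY0 : aY = 0 := by
            rcases Nat.mul_eq_zero.mp hK0 with h0 | h0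
            · omega
            · exact h0
          have hR1' : ∑ ξ ∈ W, m ξ * a ξ = 1 := by rw [← hR, hR1]
          obtain ⟨θ, hθ, h1, hrest⟩ := w2p_sum_eq_one W (fun ξ => m ξ * a ξ) hR1'
          obtain ⟨hm1, ha1⟩ := hone θ hθ h1
          have hSval : S = c θ * (m θ : ℤ) := by
            rw [hS]
            apply Finset.sum_eq_single_of_mem θ hθ
            intro ξ hξ hne
            rw [hzero ξ hξ (hrest ξ hξ hne)]
            simp
          rw [hm1, hS0] at hSval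
          simp only [Nat.cast_one, mul_one] at hSval
          exact ⟨hep1, hb, haY0, θ, hθ, hm1, ha1, hSval.symm,
            fun ξ hξ hne => hzero ξ hξ (hrest ξ hξ hne)⟩
      · -- `b = 2`
        exfalso
        rw [hb] at hstar hdeg
        push_cast at hstar hdeg
        have hR0 : (R : ℤ) = 0 := by
          have : (0 : ℤ) ≤ K := Int.natCast_nonneg _
          have : (0 : ℤ) ≤ R := Int.natCast_nonneg _
          linarith
        rw [hR0] at hSle
        have : S = 0 := by linarith [hSle.1, hSle.2]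
        linarith
    · -- `ep = -1`
      right; right; right
      rw [hep1] at hstar hdeg
      have haY1 := haYneg hep1
      have hKb : b ≤ K := by
        rw [hK]
        calc b = 1 * (b * 1) := by ring
          _ ≤ Yf.card * (b * aY) := Nat.mul_le_mul hYne (Nat.mul_le_mul le_rfl haY1)
      have hRb : (b : ℤ) + 1 ≤ R := by
        have := hSle.2
        linarith
      have hK1 : K = 1 ∧ b = 1 := by
        have h1 : (K : ℤ) + R = b + 2 := by linarith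
        have h2 : (b : ℤ) ≤ K := by exact_mod_cast hKb
        have h3 : (1 : ℤ) ≤ b := by exact_mod_cast hb1
        constructor
        · have : (K : ℤ) = 1 := by linarith
          exact_mod_cast this
        · have : (b : ℤ) = 1 := by linarith
          exact_mod_cast this
      obtain ⟨hK1', hb1'⟩ := hK1
      rw [hK1', hb1', one_mul] at hK
      exact ⟨hep1, hb1', Nat.eq_one_of_mul_eq_one_right hK.symm,
        Nat.eq_one_of_mul_eq_one_left hK.symm⟩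

end Cfsg.Agent.W2P
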