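import Cfsg.Agent.BR.Block
import Cfsg.Agent.BR.BlockB
import Cfsg.Agent.BR.BlockC
import Cfsg.Agent.BR.Nodes
import Cfsg.Agent.BR.P2pBlock
import Cfsg.Agent.Helper6.Regular
import Cfsg.Agent.W2P.TriCore

/-!
# S0720, file W3 (helper1): the block trichotomy for a character of degree `2p`

On the data `br_blk_IsData P X Y dl ep O` (any `f = |N(P) : P|`) and a character `π` of degree `2p`
vanishing on `P ∖ 1`, containing the trivial character once, of norm `≥ 3` and without non-trivial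
linear constituents: either `π = 1 + χ₁ + θ` with `χ₁(1) = p - 1`, `θ(1) = p` (norm `3`), or
`ep = 1`, `2 ≤ |Y|` and the members of `Y` have degree `f`.

* `w2p_tri_fin`, `w2p_tri_norm2` : the expansion with three resp. two constituents.
* `w2p_tricho` : the theorem (header frozen in `notes/S0720_helper3.md`).
-/

set_option autoImplicit false
set_option linter.style.haveILetI false

namespace Cfsg.Agent.W2P

open Cfsg Cfsg.Agent.Helper6 Cfsg.Agent.BR Cfsg.Agent.D1 MulAction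
open scoped ComplexConjugate

universe u

variable {G : Type u} [Group G] [Fintype G]

/-- three constituents of multiplicity one -/
theorem w2p_tri_fin [Fintype (IrrCharacter G)] (π : G → ℂ) (hπ : IsCharacter G π)
    (m : IrrCharacter G → ℕ)
    (hm : ∀ ξ : IrrCharacter G, classInner π (ξ : G → ℂ) = (m ξ : ℂ))
    (hexp : π = ∑ ξ : IrrCharacter G, (m ξ : ℂ) • (ξ : G → ℂ))
    (χ₁ θ : IrrCharacter G) (h1 : χ₁ ≠ trivIrr G) (h2 : θ ≠ trivIrr G) (h3 : χ₁ ≠ θ)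
    (hm0 : m (trivIrr G) = 1) (hm1 : m χ₁ = 1) (hm2 : m θ = 1)
    (hsupp : ∀ ξ : IrrCharacter G, ξ ≠ trivIrr G → ξ ≠ χ₁ → ξ ≠ θ → m ξ = 0) :
    (π = fun g => 1 + (χ₁ : G → ℂ) g + (θ : G → ℂ) g) ∧ classInner π π = 3 := by
  classical
  obtain ⟨S, hS⟩ : ∃ S : Finset (IrrCharacter G), S = {trivIrr G, χ₁, θ} := ⟨_, rfl⟩
  have hSsum : ∀ {M : Type} [AddCommMonoid M] (F : IrrCharacter G → M),
      (∀ ξ, m ξ = 0 → F ξ = 0) →
      ∑ ξ : IrrCharacter G, F ξ = F (trivIrr G) + (F χ₁ + F θ) := by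
    intro M _ F hF
    have h4 : ∑ ξ ∈ S, F ξ = ∑ ξ : IrrCharacter G, F ξ := by
      apply Finset.sum_subset (Finset.subset_univ S)
      intro ξ _ hξ
      apply hF
      rw [hS] at hξ
      simp only [Finset.mem_insert, Finset.mem_singleton, not_or] at hξ
      exact hsupp ξ hξ.1 hξ.2.1 hξ.2.2
    rw [← h4, hS, Finset.sum_insert, Finset.sum_insert, Finset.sum_singleton]
    · simp only [Finset.mem_singleton]
      exact h3
    · simp only [Finset.mem_insert, Finset.mem_singleton, not_or]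
      exact ⟨fun he => h1 he.symm, fun he => h2 he.symm⟩
  constructor
  · rw [hexp]
    funext g
    rw [Finset.sum_apply]
    rw [hSsum (fun ξ => ((m ξ : ℂ) • (ξ : G → ℂ)) g) (fun ξ h0 => by
      rw [h0]
      simp)]
    rw [hm0, hm1, hm2]
    simp only [Pi.smul_apply, smul_eq_mul, Nat.cast_one, one_mul]
    have h5 : ((trivIrr G : IrrCharacter G) : G → ℂ) g = 1 := rfl
    rw [h5]
    ring
  · rw [br_p2b_norm π hπ m hm, hSsum (fun ξ => m ξ ^ 2) (fun ξ h0 => by rw [h0]; rfl), hm0, hm1,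
      hm2]
    norm_num

/-- two constituents of multiplicity one -/
theorem w2p_tri_norm2 [Fintype (IrrCharacter G)] (π : G → ℂ) (hπ : IsCharacter G π)
    (m : IrrCharacter G → ℕ)
    (hm : ∀ ξ : IrrCharacter G, classInner π (ξ : G → ℂ) = (m ξ : ℂ))
    (ξ₀ : IrrCharacter G) (h1 : ξ₀ ≠ trivIrr G)
    (hm0 : m (trivIrr G) = 1) (hm1 : m ξ₀ = 1)
    (hsupp : ∀ ξ : IrrCharacter G, ξ ≠ trivIrr G → ξ ≠ ξ₀ → m ξ = 0) :
    classInner π π = 2 := by
  classical
  obtain ⟨S, hS⟩ : ∃ S : Finset (IrrCharacter G), S = {trivIrr G, ξ₀} := ⟨_, rfl⟩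
  have h4 : ∑ ξ ∈ S, m ξ ^ 2 = ∑ ξ : IrrCharacter G, m ξ ^ 2 := by
    apply Finset.sum_subset (Finset.subset_univ S)
    intro ξ _ hξ
    rw [hS] at hξ
    simp only [Finset.mem_insert, Finset.mem_singleton, not_or] at hξ
    rw [hsupp ξ hξ.1 hξ.2]
    rfl
  rw [br_p2b_norm π hπ m hm, ← h4, hS, Finset.sum_insert, Finset.sum_singleton, hm0, hm1]
  · norm_num
  · simp only [Finset.mem_singleton]
    exact fun he => h1 he.symm

set_option maxHeartbeats 1600000 in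
/-- **S0720, file W3: the block trichotomy.** -/
theorem w2p_tricho {G : Type u} [Group G] [Fintype G] {p : ℕ} [Fact p.Prime] (hp2 : p ≠ 2)
    {P : Sylow p G} {X Y : Set (IrrCharacter G)} {dl : IrrCharacter G → ℤ} {ep : ℤ}
    {O : IrrCharacter G → Finset (↥(P : Subgroup G) →* ℂˣ)}
    (h : br_blk_IsData P X Y dl ep O)
    (π : G → ℂ) (hπ : IsCharacter G π) (hπ1 : π 1 = 2 * (p : ℂ))
    (hπP : ∀ x : G, x ∈ (P : Subgroup G) → x ≠ 1 → π x = 0)
    (hπt : classInner π (fun _ => (1 : ℂ)) = 1)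
    (hπr : ∃ r : ℕ, 3 ≤ r ∧ classInner π π = (r : ℂ))
    (hlin : ∀ χ : IrrCharacter G, (χ : G → ℂ) 1 = 1 → χ ≠ trivIrr G →
      classInner π (χ : G → ℂ) = 0) :
    (∃ χ₁ θ : IrrCharacter G, (χ₁ : G → ℂ) 1 = (p : ℂ) - 1 ∧ (θ : G → ℂ) 1 = (p : ℂ) ∧
        (π = fun g => 1 + (χ₁ : G → ℂ) g + (θ : G → ℂ) g) ∧ classInner π π = 3) ∨
    (ep = 1 ∧ 2 ≤ Nat.card Y ∧ ∀ ψ ∈ Y, charDegree (ψ : G → ℂ) =
        (P : Subgroup G).relIndex (Subgroup.normalizer ((P : Subgroup G) : Set G))) := by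
  classical
  haveI : Finite (IrrCharacter G) := irr_finite
  haveI : Fintype (IrrCharacter G) := Fintype.ofFinite _
  haveI := br_blk_finite_P h
  haveI : Fintype ↥(P : Subgroup G) := Fintype.ofFinite _
  have hpp : p.Prime := Fact.out
  have hp3 : 3 ≤ p := by
    have := hpp.two_le
    omega
  obtain ⟨f, hf⟩ : ∃ f : ℕ, f =
      (P : Subgroup G).relIndex (Subgroup.normalizer ((P : Subgroup G) : Set G)) := ⟨_, rfl⟩
  have htf : Nat.card Y * f = p - 1 := by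
    rw [hf]
    exact h.card_Y
  have htY : trivIrr G ∉ Y := fun hY => Set.disjoint_left.mp h.disj h.triv_mem hY
  have ht1 : 1 ≤ Nat.card Y := by
    rcases Nat.eq_zero_or_pos (Nat.card Y) with h0 | h0
    · rw [h0, zero_mul] at htf
      omega
    · exact h0
  haveI : Nonempty Y := by
    rcases isEmpty_or_nonempty Y with he | hne'
    · rw [Nat.card_of_isEmpty] at ht1
      omega
    · exact hne'
  obtain ⟨⟨ψ₀, hψ₀⟩⟩ := (inferInstance : Nonempty Y)
  obtain ⟨x₀, hx₀⟩ := br_blk_exists_ne_one h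
  have hdltriv : dl (trivIrr G) = 1 := by
    have h1 := h.val_X (trivIrr G) h.triv_mem (x₀ : G) x₀.2 (br_blk_ne_one_coe x₀ hx₀)
    have h2 : ((trivIrr G : IrrCharacter G) : G → ℂ) (x₀ : G) = 1 := rfl
    rw [h2] at h1
    exact_mod_cast h1.symm
  -- the multiplicities of `π`
  obtain ⟨m, hm, hexp, hdegsum⟩ := br_nd_mult π hπ
  have hD : ∑ ξ : IrrCharacter G, m ξ * charDegree (ξ : G → ℂ) = 2 * p := by
    apply hdegsum
    rw [hπ1]
    push_cast
    ring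
  have hmtriv : m (trivIrr G) = 1 := by
    have h1 := hm (trivIrr G)
    have h2 : ((trivIrr G : IrrCharacter G) : G → ℂ) = fun _ => (1 : ℂ) := rfl
    rw [h2, hπt] at h1
    exact_mod_cast h1.symm
  have hmlin : ∀ ξ : IrrCharacter G, ξ ≠ trivIrr G → charDegree (ξ : G → ℂ) = 1 → m ξ = 0 := by
    intro ξ hξ h1
    have h2 : (ξ : G → ℂ) 1 = 1 := by rw [← br_blk_deg_cast ξ, h1, Nat.cast_one]
    have h3 := hlin ξ h2 hξ
    rw [hm ξ] at h3
    exact_mod_cast h3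
  obtain ⟨b, hb⟩ : ∃ b : ℕ, b = m ψ₀ := ⟨_, rfl⟩
  -- (B3) for `π`
  obtain ⟨hmY, hperm⟩ : (∀ ψ ∈ Y, m ψ = b) ∧
      (∑ᶠ χ ∈ X, (m χ : ℂ) * (dl χ : ℂ)) - (ep : ℂ) * (b : ℂ) = 0 := by
    obtain ⟨m', hm', hrel⟩ := br_blk_indep h (fun χ => (m χ : ℂ)) 0 (by
      intro x hx hx1
      have h1 := congrFun hexp x
      rw [hπP x hx hx1] at h1
      simp only [Finset.sum_apply, Pi.smul_apply, smul_eq_mul] at h1
      exact h1.symm)
    have h1 : m' = (b : ℂ) := by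
      rw [← hm' ψ₀ hψ₀, hb]
    refine ⟨fun ψ hψ => ?_, ?_⟩
    · have h2 := hm' ψ hψ
      rw [h1] at h2
      exact_mod_cast h2
    · rw [h1] at hrel
      exact hrel
  -- the degree decomposition
  have hdec : ∀ ξ : IrrCharacter G, ∃ a : ℕ,
      ((charDegree (ξ : G → ℂ) : ℕ) : ℤ) =
        (a : ℤ) * p + (if ξ ∈ X then dl ξ else if ξ ∈ Y then ep * f else 0) ∧
      (ξ ∉ Y → charDegree (ξ : G → ℂ) ≠ 1 → 1 ≤ a) ∧ (ξ ∈ Y → ep = -1 → 1 ≤ a) := by
    intro ξ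
    have hpos := d1_fin_charDegree_pos ξ
    by_cases hX : ξ ∈ X
    · have hY : ξ ∉ Y := fun hY => Set.disjoint_left.mp h.disj hX hY
      rcases h.dl_sign ξ with hdl | hdl
      · obtain ⟨u, hu, -⟩ := br_blk_deg_X_pos h ξ hX hdl
        refine ⟨u, ?_, fun _ hne => ?_, fun hY' => absurd hY' hY⟩
        · rw [if_pos hX, hdl, hu]
          push_cast
          ring
        · rcases Nat.eq_zero_or_pos u with h0 | h0
          · rw [h0, zero_mul, zero_add] at hu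
            exact absurd hu hne
          · exact h0
      · obtain ⟨u, hu, -⟩ := br_blk_deg_X_neg h ξ hX hdl
        refine ⟨u + 1, ?_, fun _ _ => Nat.succ_pos u, fun hY' => absurd hY' hY⟩
        rw [if_pos hX, hdl]
        have h1 : ((charDegree (ξ : G → ℂ) + 1 : ℕ) : ℤ) = (((u + 1) * p : ℕ) : ℤ) := by rw [hu]
        push_cast at h1 ⊢
        linarith
    · by_cases hY : ξ ∈ Y
      · rcases h.ep_sign with hep | hep
        · obtain ⟨w, hw, -⟩ := br_blk_deg_Y_pos h ξ hY hep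
          refine ⟨w, ?_, fun hY' => absurd hY hY', fun _ hep' => ?_⟩
          · rw [if_neg hX, if_pos hY, hep, hw, ← hf]
            push_cast
            ring
          · rw [hep] at hep'
            norm_num at hep'
        · obtain ⟨w, hw, -⟩ := br_blk_deg_Y_neg h ξ hY hep
          refine ⟨w, ?_, fun hY' => absurd hY hY', fun _ _ => ?_⟩
          · rw [if_neg hX, if_pos hY, hep]
            rw [← hf] at hw
            have h1 : ((charDegree (ξ : G → ℂ) + f : ℕ) : ℤ) = ((w * p : ℕ) : ℤ) := by rw [hw]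
            push_cast at h1 ⊢
            linarith
          · rcases Nat.eq_zero_or_pos w with h0 | h0
            · rw [h0, zero_mul] at hw
              omega
            · exact h0
      · obtain ⟨z, hz, -⟩ := br_blk_deg_Z h ξ hX hY
        refine ⟨z, ?_, fun _ _ => ?_, fun hY' => absurd hY' hY⟩
        · rw [if_neg hX, if_neg hY, hz]
          push_cast
          ring
        · rcases Nat.eq_zero_or_pos z with h0 | h0
          · rw [h0, zero_mul] at hz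
            omega
          · exact h0
  choose a ha1 ha2 ha3 using hdec
  -- the index sets
  obtain ⟨Yf, hYf⟩ : ∃ Yf : Finset (IrrCharacter G), Yf = (Set.toFinite Y).toFinset := ⟨_, rfl⟩
  have hmemYf : ∀ ξ, ξ ∈ Yf ↔ ξ ∈ Y := fun ξ => by rw [hYf, Set.Finite.mem_toFinset]
  have hYfcard : Yf.card = Nat.card Y := by
    rw [← Nat.card_congr (Equiv.subtypeEquivRight hmemYf), Nat.card_eq_fintype_card,
      Fintype.card_coe]
  obtain ⟨W, hW⟩ : ∃ W : Finset (IrrCharacter G),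
      W = Finset.univ.filter (fun ξ => ξ ≠ trivIrr G ∧ ξ ∉ Yf) := ⟨_, rfl⟩
  have hWmem : ∀ ξ, ξ ∈ W ↔ ξ ≠ trivIrr G ∧ ξ ∉ Yf := fun ξ => by
    rw [hW, Finset.mem_filter]
    exact ⟨fun h1 => h1.2, fun h1 => ⟨Finset.mem_univ _, h1⟩⟩
  have hoY : trivIrr G ∉ Yf := fun h1 => htY ((hmemYf _).1 h1)
  have hpart : ∀ F : IrrCharacter G → ℤ,
      ∑ ξ, F ξ = F (trivIrr G) + (∑ ξ ∈ Yf, F ξ + ∑ ξ ∈ W, F ξ) := by
    intro F
    have h1 : (Finset.univ : Finset (IrrCharacter G)) = insert (trivIrr G) (Yf ∪ W) := by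
      ext ξ
      simp only [Finset.mem_univ, Finset.mem_insert, Finset.mem_union, true_iff, hWmem]
      by_cases h1 : ξ = trivIrr G
      · left; exact h1
      · by_cases h2 : ξ ∈ Yf
        · right; left; exact h2
        · right; right; exact ⟨h1, h2⟩
    have h2 : Disjoint Yf W := by
      rw [Finset.disjoint_left]
      intro ξ h1 h2
      exact ((hWmem ξ).1 h2).2 h1
    have h3 : trivIrr G ∉ Yf ∪ W := by
      rw [Finset.mem_union, not_or]
      exact ⟨hoY, fun h => ((hWmem _).1 h).1 rfl⟩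
    rw [h1, Finset.sum_insert h3, Finset.sum_union h2]
  obtain ⟨c, hc⟩ : ∃ c : IrrCharacter G → ℤ, c = fun ξ => if ξ ∈ X then dl ξ else 0 := ⟨_, rfl⟩
  have hcX : ∀ ξ, ξ ∈ X → c ξ = dl ξ := fun ξ hξ => by rw [hc]; exact if_pos hξ
  have hcnX : ∀ ξ, ξ ∉ X → c ξ = 0 := fun ξ hξ => by rw [hc]; exact if_neg hξ
  have hc3 : ∀ ξ, c ξ = 1 ∨ c ξ = -1 ∨ c ξ = 0 := by
    intro ξ
    by_cases hX : ξ ∈ X
    · rw [hcX ξ hX]
      rcases h.dl_sign ξ with h1 | h1
      · left; exact h1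
      · right; left; exact h1
    · right; right; exact hcnX ξ hX
  -- (*)
  have hstar : 1 + ∑ ξ ∈ W, c ξ * (m ξ : ℤ) = ep * b := by
    have h1 : ∑ᶠ χ ∈ X, (m χ : ℂ) * (dl χ : ℂ) =
        ((∑ ξ : IrrCharacter G, c ξ * (m ξ : ℤ) : ℤ) : ℂ) := by
      rw [finsum_mem_eq_finite_toFinset_sum _ (Set.toFinite X)]
      push_cast
      rw [← Finset.sum_subset (Finset.subset_univ (Set.toFinite X).toFinset)]
      · apply Finset.sum_congr rfl
        intro ξ hξ
        rw [Set.Finite.mem_toFinset] at hξ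
        rw [hcX ξ hξ]
        ring
      · intro ξ _ hξ
        rw [Set.Finite.mem_toFinset] at hξ
        rw [hcnX ξ hξ]
        simp
    rw [h1] at hperm
    have h2 : (∑ ξ : IrrCharacter G, c ξ * (m ξ : ℤ)) - ep * b = 0 := by exact_mod_cast hperm
    rw [hpart, hcX _ h.triv_mem, hdltriv, hmtriv,
      Finset.sum_eq_zero (fun ξ hξ => by
        rw [hcnX ξ (fun hX => Set.disjoint_left.mp h.disj hX ((hmemYf ξ).1 hξ)), zero_mul])] at h2
    push_cast at h2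
    linarith
  -- the constant on `Y`
  obtain ⟨aY, haY⟩ : ∃ aY : ℕ, aY = a ψ₀ := ⟨_, rfl⟩
  have hψ₀X : ψ₀ ∉ X := fun hX => Set.disjoint_left.mp h.disj hX hψ₀
  have hpZ : (p : ℤ) ≠ 0 := by exact_mod_cast hpp.ne_zero
  have haYc : ∀ ξ ∈ Yf, a ξ = aY := by
    intro ξ hξ
    rw [hmemYf] at hξ
    have hξX : ξ ∉ X := fun hX => Set.disjoint_left.mp h.disj hX hξ
    have h1 := ha1 ξ
    have h2 := ha1 ψ₀
    rw [if_neg hξX, if_pos hξ, br_star_deg_eq h ξ ψ₀ hξ hψ₀] at h1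
    rw [if_neg hψ₀X, if_pos hψ₀] at h2
    have h3 : (a ξ : ℤ) * p = (a ψ₀ : ℤ) * p := by linarith
    have h4 := mul_right_cancel₀ hpZ h3
    rw [haY]
    exact_mod_cast h4
  -- the trivial character
  have hao : a (trivIrr G) = 0 := by
    have h1 := ha1 (trivIrr G)
    rw [if_pos h.triv_mem, hdltriv, br_p2b_deg_triv] at h1
    have h2 : (a (trivIrr G) : ℤ) * p = 0 := by
      push_cast at h1
      linarith
    rcases mul_eq_zero.mp h2 with h3 | h3
    · exact_mod_cast h3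
    · exact absurd h3 hpZ
  -- the degree equation
  have hdeg : ((∑ ξ, m ξ * a ξ : ℕ) : ℤ) + ep * b = 2 := by
    have h1 : ((∑ ξ : IrrCharacter G, m ξ * charDegree (ξ : G → ℂ) : ℕ) : ℤ) = 2 * p := by
      rw [hD]
      push_cast
      ring
    push_cast at h1
    rw [Finset.sum_congr rfl (fun ξ _ => by rw [ha1 ξ, mul_add])] at h1
    rw [Finset.sum_add_distrib] at h1
    have hWsum : ∑ ξ ∈ W, (m ξ : ℤ) * (if ξ ∈ X then dl ξ else 0) =
        ∑ ξ ∈ W, c ξ * (m ξ : ℤ) := by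
      apply Finset.sum_congr rfl
      intro ξ _
      rw [hc]
      ring
    have h2 : ∑ ξ : IrrCharacter G,
        (m ξ : ℤ) * (if ξ ∈ X then dl ξ else if ξ ∈ Y then ep * f else 0) =
        ep * b * p := by
      rw [hpart, if_pos h.triv_mem, hdltriv, hmtriv,
        Finset.sum_congr rfl (fun ξ hξ => by
          rw [if_neg (fun hX => Set.disjoint_left.mp h.disj hX ((hmemYf ξ).1 hξ)),
            if_pos ((hmemYf ξ).1 hξ), hmY ξ ((hmemYf ξ).1 hξ)]),
        Finset.sum_const, hYfcard,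
        Finset.sum_congr rfl (fun ξ hξ => by
          rw [if_neg (fun hY => ((hWmem ξ).1 hξ).2 ((hmemYf ξ).2 hY))]), hWsum]
      have h3 : ((Nat.card Y * f : ℕ) : ℤ) = p - 1 := by
        rw [htf, Nat.cast_sub (by omega)]
        push_cast
        ring
      push_cast at h3
      rw [nsmul_eq_mul]
      push_cast
      have h4 : (Nat.card Y : ℤ) * ((b : ℤ) * (ep * f)) = ep * b * ((Nat.card Y : ℤ) * f) := by
        ring
      rw [h4, h3]
      linarith
    rw [h2] at h1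
    have h5 : (∑ ξ : IrrCharacter G, (m ξ : ℤ) * ((a ξ : ℤ) * p)) =
        (∑ ξ : IrrCharacter G, (m ξ : ℤ) * (a ξ : ℤ)) * p := by
      rw [Finset.sum_mul]
      apply Finset.sum_congr rfl
      intro ξ _
      ring
    rw [h5] at h1
    have h6 : ((∑ ξ : IrrCharacter G, (m ξ : ℤ) * (a ξ : ℤ)) + ep * b) * p = 2 * p := by
      linarith
    have h7 := mul_right_cancel₀ hpZ h6
    push_cast
    exact h7
  -- the core
  have hWa : ∀ ξ ∈ W, m ξ ≠ 0 → 1 ≤ a ξ := by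
    intro ξ hξ hm0
    obtain ⟨h1, h2⟩ := (hWmem ξ).1 hξ
    apply ha2 ξ (fun hY => h2 ((hmemYf ξ).2 hY))
    intro hd1
    exact hm0 (hmlin ξ h1 hd1)
  have haYneg : ep = -1 → 1 ≤ aY := by
    intro hep
    rw [haY]
    exact ha3 ψ₀ hψ₀ hep
  have hYne : 1 ≤ Yf.card := by rw [hYfcard]; exact ht1
  obtain ⟨r, hr3, hr⟩ := hπr
  -- degrees from `a`
  have hdegZ : ∀ ξ ∈ W, c ξ = 0 → a ξ = 1 → (ξ : G → ℂ) 1 = (p : ℂ) := by
    intro ξ hξ hc0 ha
    obtain ⟨-, h2⟩ := (hWmem ξ).1 hξ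
    have hξY : ξ ∉ Y := fun hY => h2 ((hmemYf ξ).2 hY)
    have hξX : ξ ∉ X := by
      intro hX
      rw [hcX ξ hX] at hc0
      rcases h.dl_sign ξ with h3 | h3 <;> rw [h3] at hc0 <;> norm_num at hc0
    have h3 := ha1 ξ
    rw [if_neg hξX, if_neg hξY, ha] at h3
    rw [← br_blk_deg_cast ξ]
    have h4 : ((charDegree (ξ : G → ℂ) : ℕ) : ℤ) = p := by
      rw [h3]
      push_cast
      ring
    have h5 : charDegree (ξ : G → ℂ) = p := by exact_mod_cast h4
    rw [h5]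
  rcases w2p_tri_core (trivIrr G) Yf W hWmem hoY m a c ep b aY h.ep_sign hc3 hao
      (fun ξ hξ => hmY ξ ((hmemYf ξ).1 hξ)) haYc hYne haYneg hWa hstar hdeg with
    ⟨χ₁, hχ₁, θ, hθ, hne, hm1, hm2, ha1', ha2', hc1, hc2, hsupp⟩ |
    ⟨hep, hb1, haY0, θ, hθ, hm2, ha2', hc2, hrest⟩ |
    ⟨ξ₀, hξ₀, hm1, hsupp⟩ | ⟨hep, hb1, hcard, haY1⟩
  · -- shape A
    left
    obtain ⟨hχ₁o, hχ₁Yf⟩ := (hWmem χ₁).1 hχ₁
    obtain ⟨hθo, -⟩ := (hWmem θ).1 hθ
    have hχ₁X : χ₁ ∈ X := by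
      by_contra hX
      rw [hcnX χ₁ hX] at hc1
      norm_num at hc1
    have hdeg1 : (χ₁ : G → ℂ) 1 = (p : ℂ) - 1 := by
      have h3 := ha1 χ₁
      rw [if_pos hχ₁X, ← hcX χ₁ hχ₁X, hc1, ha1'] at h3
      rw [← br_blk_deg_cast χ₁]
      have h4 : ((charDegree (χ₁ : G → ℂ) : ℕ) : ℂ) = (((charDegree (χ₁ : G → ℂ) : ℕ) : ℤ) : ℂ) := by
        push_cast
        rfl
      rw [h4, h3]
      push_cast
      ring
    obtain ⟨h5, h6⟩ := w2p_tri_fin π hπ m hm hexp χ₁ θ hχ₁o hθo hne hmtriv hm1 hm2 hsupp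
    exact ⟨χ₁, θ, hdeg1, hdegZ θ hθ hc2 ha2', h5, h6⟩
  · -- `ep = 1`, `b = 1`, `aY = 0`
    have hdegY : ∀ ψ ∈ Y, charDegree (ψ : G → ℂ) = f := by
      intro ψ hψ
      have hψX : ψ ∉ X := fun hX => Set.disjoint_left.mp h.disj hX hψ
      have h3 := ha1 ψ
      rw [if_neg hψX, if_pos hψ, haYc ψ ((hmemYf ψ).2 hψ), haY0, hep] at h3
      have h4 : ((charDegree (ψ : G → ℂ) : ℕ) : ℤ) = f := by
        rw [h3]
        push_cast
        ring
      exact_mod_cast h4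
    rcases (by omega : Nat.card Y = 1 ∨ 2 ≤ Nat.card Y) with ht | ht
    · -- `t = 1`: the rank three shape with `χ₁ ∈ Y`
      left
      rw [← hYfcard] at ht
      obtain ⟨ψ₁, hψ₁⟩ := Finset.card_eq_one.mp ht
      have hψ₀Yf : ψ₀ ∈ Yf := (hmemYf ψ₀).2 hψ₀
      have hψ₁eq : Yf = {ψ₀} := by
        rw [hψ₁] at hψ₀Yf ⊢
        rw [Finset.mem_singleton.mp hψ₀Yf]
      obtain ⟨hθo, hθYf⟩ := (hWmem θ).1 hθ
      have hψ₀o : ψ₀ ≠ trivIrr G := fun he => htY (he ▸ hψ₀)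
      have hψ₀θ : ψ₀ ≠ θ := fun he => hθYf (he ▸ hψ₀Yf)
      have hf1 : f = p - 1 := by
        rw [← hYfcard, ht, one_mul] at htf
        exact htf
      have hdeg1 : (ψ₀ : G → ℂ) 1 = (p : ℂ) - 1 := by
        rw [← br_blk_deg_cast ψ₀, hdegY ψ₀ hψ₀, hf1, Nat.cast_sub (by omega), Nat.cast_one]
      have hsupp : ∀ ξ : IrrCharacter G, ξ ≠ trivIrr G → ξ ≠ ψ₀ → ξ ≠ θ → m ξ = 0 := by
        intro ξ h1 h2 h3
        apply hrest ξ _ h3
        rw [hWmem]
        refine ⟨h1, ?_⟩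
        rw [hψ₁eq, Finset.mem_singleton]
        exact h2
      obtain ⟨h5, h6⟩ := w2p_tri_fin π hπ m hm hexp ψ₀ θ hψ₀o hθo hψ₀θ hmtriv
        (by rw [← hb, hb1]) hm2 hsupp
      exact ⟨ψ₀, θ, hdeg1, hdegZ θ hθ hc2 ha2', h5, h6⟩
    · -- `t ≥ 2`: BAD
      right
      refine ⟨hep, ht, fun ψ hψ => ?_⟩
      rw [hdegY ψ hψ, hf]
  · -- norm `2`
    exfalso
    have h2 := w2p_tri_norm2 π hπ m hm ξ₀ hξ₀ hmtriv hm1 hsupp
    rw [h2] at hr
    have : (2 : ℕ) = r := by exact_mod_cast hr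
    omega
  · -- a linear constituent
    exfalso
    have hf1 : f = p - 1 := by
      rw [← hYfcard, hcard, one_mul] at htf
      exact htf
    have h3 := ha1 ψ₀
    rw [if_neg hψ₀X, if_pos hψ₀, ← haY, haY1, hep, hf1, Nat.cast_sub (by omega)] at h3
    have h4 : ((charDegree (ψ₀ : G → ℂ) : ℕ) : ℤ) = 1 := by
      rw [h3]
      push_cast
      ring
    have h5 : charDegree (ψ₀ : G → ℂ) = 1 := by exact_mod_cast h4
    have h6 := hmlin ψ₀ (fun he => htY (he ▸ hψ₀)) h5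
    omega

end Cfsg.Agent.W2P
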