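import Mathlib
import Cfsg.Agent.Helper2.Rank3G

/-!
# S0720 (Wielandt, degree `2p`), the case `p = 2` (helper5)

A primitive permutation group of degree `4` is doubly transitive: a point stabiliser `G_a` fixes no
second point (else it fixes everything, `G_a = 1` is maximal in a group of order `4`), so all its orbits
on the three remaining points have at least two elements, and there is only one.

* `w2p_two_moves` : `G_a` moves every `b ≠ a`;
* `w2p_two` : `|α| = 4`, `G ≤ Sym(α)` primitive ⇒ `G` is 2-transitive;
* `w2p_two'` : the same with `|α| = 2 * p`, `p = 2`.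
-/

set_option autoImplicit false
set_option linter.style.haveILetI false
set_option linter.unusedSectionVars false
set_option linter.unusedVariables false

namespace Cfsg.Agent.W2P

open MulAction

universe u

/-- the stabiliser of a point in a primitive group of degree `4` moves every other point -/
theorem w2p_two_moves {α : Type u} [Fintype α] [DecidableEq α] (hα : Fintype.card α = 4)
    (G : Subgroup (Equiv.Perm α)) (hprim : IsPreprimitive G α) (a b : α) (hab : b ≠ a) :
    ∃ h : G, h • a = a ∧ h • b ≠ b := by
  classical
  by_contra hcon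
  haveI := hprim
  haveI : IsPretransitive G α := hprim.toIsPretransitive
  haveI : Nontrivial α := by
    rw [← Fintype.one_lt_card_iff_nontrivial, hα]
    norm_num
  have hfix : ∀ h : G, h • a = a → h • b = b := by
    intro h ha
    by_contra hne
    exact hcon ⟨h, ha, hne⟩
  have hle : stabilizer G a ≤ stabilizer G b := by
    intro h hh
    rw [mem_stabilizer_iff] at hh ⊢
    exact hfix h hh
  have hall : ∀ x : α, stabilizer G a ≤ stabilizer G x := fun x =>
    Cfsg.Agent.Helper2.Rank3.stabilizer_fixes_all hprim a b (Ne.symm hab) hle x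
  have hbot : stabilizer G a = ⊥ := by
    rw [eq_bot_iff]
    intro h hh
    rw [Subgroup.mem_bot]
    have hx : ∀ x : α, (h : Equiv.Perm α) x = x := by
      intro x
      have h1 := hall x hh
      rw [mem_stabilizer_iff] at h1
      exact h1
    apply Subtype.ext
    apply Equiv.ext
    intro x
    rw [hx x]
    rfl
  have hco : IsCoatom (stabilizer G a) :=
    IsPreprimitive.isCoatom_stabilizer_of_isPreprimitive (G := ↥G) a
  have hidx : (stabilizer G a).index = Nat.card α := index_stabilizer_of_transitive (↥G) a
  rw [hbot, Subgroup.index_bot, Nat.card_eq_fintype_card (α := α), hα] at hidx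
  haveI : Fact (Nat.Prime 2) := ⟨Nat.prime_two⟩
  obtain ⟨g, hg⟩ := exists_prime_orderOf_dvd_card' (G := ↥G) 2 (by rw [hidx]; norm_num)
  have hg1 : g ≠ 1 := by
    intro h1
    rw [h1, orderOf_one] at hg
    omega
  have hlt : stabilizer G a < Subgroup.zpowers g := by
    rw [hbot, bot_lt_iff_ne_bot]
    intro h0
    exact hg1 (Subgroup.zpowers_eq_bot.mp h0)
  have htop := hco.2 _ hlt
  have hc : Nat.card (Subgroup.zpowers g) = 2 := by rw [Nat.card_zpowers, hg]
  rw [htop, Subgroup.card_top, hidx] at hc
  omega

/-- **Degree 4**: a primitive permutation group of degree `4` is doubly transitive. -/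
theorem w2p_two {α : Type u} [Fintype α] [DecidableEq α] (hα : Fintype.card α = 4)
    (G : Subgroup (Equiv.Perm α)) (hprim : IsPreprimitive G α) :
    IsMultiplyPretransitive G α 2 := by
  classical
  haveI := hprim
  haveI : IsPretransitive G α := hprim.toIsPretransitive
  -- the stabiliser of `a` is transitive on the other points
  have key : ∀ a b c : α, b ≠ a → c ≠ a → ∃ h : G, h • a = a ∧ h • b = c := by
    intro a b c hb hc
    by_contra hcon0
    have hcon : ∀ h : G, h • a = a → h • b ≠ c := fun h ha hb' => hcon0 ⟨h, ha, hb'⟩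
    obtain ⟨h1, h1a, h1b⟩ := w2p_two_moves hα G hprim a b hb
    obtain ⟨h2, h2a, h2c⟩ := w2p_two_moves hα G hprim a c hc
    have d1 : h1 • b ≠ a := by
      intro e
      apply hb
      have e' : h1 • b = h1 • a := by rw [e, h1a]
      exact smul_left_cancel h1 e'
    have d2 : h2 • c ≠ a := by
      intro e
      apply hc
      have e' : h2 • c = h2 • a := by rw [e, h2a]
      exact smul_left_cancel h2 e'
    have d3 : b ≠ c := by
      intro e
      exact hcon 1 (one_smul _ _) (by rw [one_smul]; exact e)
    have d4 : h1 • b ≠ c := fun e => hcon h1 h1a e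
    have d5 : b ≠ h2 • c := by
      intro e
      exact hcon h2⁻¹ (inv_smul_eq_iff.mpr h2a.symm) (inv_smul_eq_iff.mpr e)
    have d6 : h1 • b ≠ h2 • c := by
      intro e
      refine hcon (h2⁻¹ * h1) ?_ ?_
      · rw [mul_smul, h1a]
        exact inv_smul_eq_iff.mpr h2a.symm
      · rw [mul_smul]
        exact inv_smul_eq_iff.mpr e
    have m4 : c ∉ ({h2 • c} : Finset α) := by
      rw [Finset.mem_singleton]
      exact fun e => h2c e.symm
    have m3 : h1 • b ∉ ({c, h2 • c} : Finset α) := by
      rw [Finset.mem_insert, Finset.mem_singleton, not_or]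
      exact ⟨d4, d6⟩
    have m2 : b ∉ ({h1 • b, c, h2 • c} : Finset α) := by
      rw [Finset.mem_insert, Finset.mem_insert, Finset.mem_singleton, not_or, not_or]
      exact ⟨fun e => h1b e.symm, d3, d5⟩
    have m1 : a ∉ ({b, h1 • b, c, h2 • c} : Finset α) := by
      rw [Finset.mem_insert, Finset.mem_insert, Finset.mem_insert, Finset.mem_singleton,
        not_or, not_or, not_or]
      exact ⟨fun e => hb e.symm, fun e => d1 e.symm, fun e => hc e.symm, fun e => d2 e.symm⟩
    have hcard : ({a, b, h1 • b, c, h2 • c} : Finset α).card = 5 := by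
      rw [Finset.card_insert_of_notMem m1, Finset.card_insert_of_notMem m2,
        Finset.card_insert_of_notMem m3, Finset.card_insert_of_notMem m4,
        Finset.card_singleton]
    have hle := Finset.card_le_univ ({a, b, h1 • b, c, h2 • c} : Finset α)
    rw [hcard, hα] at hle
    omega
  rw [is_two_pretransitive_iff]
  intro a b c d hab hcd
  obtain ⟨g1, hg1⟩ := exists_smul_eq G a c
  have hne : g1 • b ≠ c := by
    intro e
    apply hab
    rw [← hg1] at e
    exact (smul_left_cancel g1 e).symm
  obtain ⟨h, hc, hd⟩ := key c (g1 • b) d hne (Ne.symm hcd)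
  exact ⟨h * g1, by rw [mul_smul, hg1, hc], by rw [mul_smul, hd]⟩

/-- the `p = 2` case of Wielandt's theorem in the `2 * p` form -/
theorem w2p_two' {α : Type u} [Fintype α] [DecidableEq α] {p : ℕ} (hp : p = 2)
    (hα : Fintype.card α = 2 * p) (G : Subgroup (Equiv.Perm α)) (hprim : IsPreprimitive G α) :
    IsMultiplyPretransitive G α 2 :=
  w2p_two (by rw [hα, hp]) G hprim

end Cfsg.Agent.W2P
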