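import Cfsg.Agent.W2P.Front
import Cfsg.Agent.W2P.NoLin
import Cfsg.Agent.W2P.Tricho
import Cfsg.Agent.W2P.Two
import Cfsg.Agent.W2P.Cent
import Cfsg.Agent.W2P.Bad
import Cfsg.Agent.BR.BlockEx
import Cfsg.Agent.Helper2.CentAlgE
import Cfsg.Agent.S0719

/-!
# S0720 (Wielandt, primitive groups of degree `2p`), file W6: the assembly (helper9)

`w2p_two'` (p = 2, helper5) | `w2p_front` (lead) → `w2p_cent` (helper4 on helper3's `w2p_regcyc`) →
`br_blk_exists` → `w2p_nolin` → `w2p_tricho` (helper1) → rank-3 shape: landed S0719;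
bad shape: `w2p_bad` (helper6, on S4503, S4504 and helper8's `w2p_psl`).
Plan and frozen headers: `notes/S0720_helper3.md` (helper3).
-/

set_option autoImplicit false
set_option linter.style.haveILetI false

namespace Cfsg.Agent.W2P

open Cfsg Cfsg.Agent.Helper6 Cfsg.Agent.BR MulAction

universe u

/-- **Wielandt's theorem on primitive groups of degree `2p`** (S0720) -/
theorem w2p_main {α : Type u} [Fintype α] [DecidableEq α] {p : ℕ} (hp : p.Prime)
    (hα : Fintype.card α = 2 * p) (G : Subgroup (Equiv.Perm α))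
    (hG : MulAction.IsPreprimitive G α) (a₀ : α) :
    MulAction.IsMultiplyPretransitive G α 2 ∨
      (Nat.card (MulAction.orbitRel.Quotient (MulAction.stabilizer G a₀) α) = 3 ∧
        ∃ a : ℕ, 0 < a ∧ p = 2 * a ^ 2 + 2 * a + 1 ∧
          ∀ b : α, b ≠ a₀ →
            Nat.card (MulAction.orbit (MulAction.stabilizer G a₀) b) = a * (2 * a + 1) ∨
            Nat.card (MulAction.orbit (MulAction.stabilizer G a₀) b) = (a + 1) * (2 * a + 1)) := by
  classical
  by_cases hnot2 : MulAction.IsMultiplyPretransitive G α 2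
  · exact Or.inl hnot2
  right
  have hp2 : p ≠ 2 := fun h2 => hnot2 (w2p_two' h2 hα G hG)
  haveI : Fact p.Prime := ⟨hp⟩
  obtain ⟨P⟩ : Nonempty (Sylow p G) := inferInstance
  obtain ⟨hPc, hnorm, hnn, hfix, hrank3, hM⟩ := w2p_front hp2 hα G hG hnot2 P
  have hC := w2p_cent hp2 hα G hG hnot2 P hPc hfix
  haveI : Fintype ↥G := Fintype.ofFinite _
  haveI : IsPretransitive ↥G α := hG.toIsPretransitive
  haveI : Nonempty α := ⟨a₀⟩
  obtain ⟨X, Y, dl, ep, O, h⟩ := br_blk_exists p P hPc hC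
  -- the permutation character
  obtain ⟨π, hπdef⟩ : ∃ π : ↥G → ℂ, π = fun g => (Nat.card (fixedBy α g) : ℂ) := ⟨_, rfl⟩
  have hπ : IsCharacter ↥G π := by
    rw [hπdef]
    exact Cfsg.Agent.Helper2.CentAlg.permChar_isCharacter
  have hπ1 : π 1 = 2 * (p : ℂ) := by
    rw [hπdef]
    show (Nat.card (fixedBy α (1 : ↥G)) : ℂ) = _
    rw [fixedBy_one_eq_univ, Nat.card_coe_set_eq, Set.ncard_univ, Nat.card_eq_fintype_card, hα]
    push_cast
    ring
  have hπP : ∀ x : ↥G, x ∈ (P : Subgroup ↥G) → x ≠ 1 → π x = 0 := by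
    intro x hx hx1
    rw [hπdef]
    show (Nat.card (fixedBy α x) : ℂ) = 0
    rw [hfix x hx hx1, Nat.cast_zero]
  have hπt : classInner π (fun _ => (1 : ℂ)) = 1 := by
    rw [hπdef]
    exact Cfsg.Agent.Helper2.CentAlg.classInner_permChar_one
  have hπself : classInner π π =
      (Nat.card (orbitRel.Quotient (stabilizer ↥G a₀) α) : ℂ) := by
    rw [hπdef]
    exact Cfsg.Agent.Helper2.CentAlg.classInner_permChar_self a₀
  have hπr : ∃ r : ℕ, 3 ≤ r ∧ classInner π π = (r : ℂ) := ⟨_, hrank3 a₀, hπself⟩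
  have hlin : ∀ χ : IrrCharacter ↥G, (χ : ↥G → ℂ) 1 = 1 → χ ≠ trivIrr ↥G →
      classInner π (χ : ↥G → ℂ) = 0 := by
    intro χ h1 hne
    rw [hπdef]
    exact w2p_nolin G hM χ h1 hne
  rcases w2p_tricho hp2 h π hπ hπ1 hπP hπt hπr hlin with
    ⟨χ₁, θ, hχ₁1, hθ1, hπeq, hππ⟩ | ⟨hep, hY2, hdeg⟩
  · have hrank : Nat.card (orbitRel.Quotient (stabilizer ↥G a₀) α) = 3 := by
      rw [hπself] at hππ
      exact_mod_cast hππ
    rw [hπdef] at hπeq
    exact ⟨hrank, Cfsg.Agent.S0719.result hG hα a₀ hrank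
      (χ₁ : ↥G → ℂ) (θ : ↥G → ℂ) χ₁.2 θ.2 hπeq hχ₁1 hθ1⟩
  · exact (w2p_bad hp2 hα G hG P hPc hnorm hnn h hep hY2 hdeg).elim

end Cfsg.Agent.W2P
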