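import Mathlib
import Cfsg.Agent.BR.P2pFront

/-!
# S0720 (Wielandt, primitive groups of degree `2p`), file W1: the front (lead)

`G ≤ Sym(α)` primitive, `|α| = 2p`, `p` odd, not `2`-transitive.  By Jordan's theorem (Mathlib) `G`
contains no `p`-cycle, so every element of order `p` is fixed-point-free and a Sylow `p`-subgroup
has order `p`; every non-trivial normal subgroup contains it; it is not normal; the rank is at
least `3`; a normal subgroup containing a point stabiliser is everything.
Plan and frozen header: `notes/S0720_helper3.md` (helper3).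
-/

set_option autoImplicit false
set_option linter.style.haveILetI false

namespace Cfsg.Agent.W2P

universe u

open Cfsg Cfsg.Agent.BR MulAction

/-- **Jordan.**  A primitive subgroup of `Sym(α)`, `|α| = 2p`, containing an element of order `p`
with a fixed point is `2`-transitive. -/
theorem w2p_jordan {α : Type u} [Fintype α] [DecidableEq α] {p : ℕ} [hp : Fact p.Prime]
    (hα : Fintype.card α = 2 * p) (G : Subgroup (Equiv.Perm α))
    (hprim : MulAction.IsPreprimitive G α) (x : G) (hx : orderOf x = p) (a : α)
    (hxa : x • a = a) : MulAction.IsMultiplyPretransitive G α 2 := by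
  have hpp := hp.out
  set σ : Equiv.Perm α := (x : Equiv.Perm α) with hσ
  have hσord : orderOf σ = p := by rw [hσ, Subgroup.orderOf_coe, hx]
  have hσa : σ a = a := hxa
  obtain ⟨n, hn⟩ := Equiv.Perm.cycleType_prime_order (σ := σ) (by rw [hσord]; exact hpp)
  rw [hσord] at hn
  have hsum : σ.support.card = (n + 1) * p := by
    rw [← Equiv.Perm.sum_cycleType, hn, Multiset.sum_replicate, smul_eq_mul]
  have hlt : σ.support.card < 2 * p := by
    rw [← hα]
    apply Finset.card_lt_univ_of_notMem (x := a)
    rw [Equiv.Perm.mem_support]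
    exact fun h => h hσa
  have hn0 : n = 0 := by
    rw [hsum] at hlt
    by_contra h
    have : 2 * p ≤ (n + 1) * p := Nat.mul_le_mul_right p (by omega)
    omega
  have hcyc : σ.IsCycle := by
    rw [← Equiv.Perm.card_cycleType_eq_one, hn, hn0]
    simp
  have hcard : σ.support.card = p := by rw [hsum, hn0]; ring
  have hsn : ((σ.support : Set α)ᶜ).ncard = (p - 1) + 1 := by
    rw [Set.ncard_compl, Set.ncard_coe_finset, Nat.card_eq_fintype_card, hα, hcard]
    have := hpp.pos
    omega
  have hsn' : (p - 1) + 2 < Nat.card α := by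
    rw [Nat.card_eq_fintype_card, hα]
    have := hpp.two_le
    omega
  exact hprim.is_two_pretransitive hsn hsn'
    (Equiv.Perm.isPretransitive_of_isCycle_mem hcyc x.2)

/-- **File W1 of S0720.** -/
theorem w2p_front {α : Type u} [Fintype α] [DecidableEq α] {p : ℕ} [Fact p.Prime] (hp2 : p ≠ 2)
    (hα : Fintype.card α = 2 * p) (G : Subgroup (Equiv.Perm α))
    (hprim : MulAction.IsPreprimitive G α) (hnot2 : ¬ MulAction.IsMultiplyPretransitive G α 2)
    (P : Sylow p G) :
    Nat.card (P : Subgroup G) = p ∧
    (∀ K : Subgroup G, K.Normal → K ≠ ⊥ → (P : Subgroup G) ≤ K) ∧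
    ¬ (P : Subgroup G).Normal ∧
    (∀ x : G, x ∈ (P : Subgroup G) → x ≠ 1 → Nat.card (MulAction.fixedBy α x) = 0) ∧
    (∀ a₀ : α, 3 ≤ Nat.card (MulAction.orbitRel.Quotient (MulAction.stabilizer G a₀) α)) ∧
    (∀ (a₀ : α) (M : Subgroup G), M.Normal → MulAction.stabilizer G a₀ ≤ M → M = ⊤) := by
  classical
  have hpp : p.Prime := Fact.out
  have hp3 : 3 ≤ p := by
    have := hpp.two_le
    omega
  haveI := hprim
  haveI : IsPretransitive G α := hprim.toIsPretransitive
  have hfaith := br_p2p_perm_faithful G
  haveI : Nonempty α := by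
    rw [← Fintype.card_pos_iff, hα]
    omega
  -- no element of order `p` has a fixed point
  have hnofix : ∀ g : G, orderOf g = p → ∀ a : α, g • a ≠ a :=
    fun g hg a hga => hnot2 (w2p_jordan hα G hprim g hg a hga)
  -- `p` divides `|G|`
  have h2p : 2 * p ∣ Nat.card G := by
    obtain ⟨a⟩ : Nonempty α := inferInstance
    exact ⟨_, (hα ▸ br_p2p_card_stab (G := G) a).symm⟩
  have hPdvd : p ∣ Nat.card (P : Subgroup G) := by
    rw [P.card_eq_multiplicity]
    have h1 : 0 < (Nat.card G).factorization p :=
      hpp.factorization_pos_of_dvd Nat.card_pos.ne' ((dvd_mul_left p 2).trans h2p)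
    exact dvd_pow_self p h1.ne'
  -- the stabilisers in `P` are trivial
  have hstab : ∀ a : α, stabilizer (P : Subgroup G) a = ⊥ := by
    intro a
    by_contra hne
    have hpg : IsPGroup p (stabilizer (P : Subgroup G) a) := P.2.to_subgroup _
    have hnt : Nontrivial (stabilizer (P : Subgroup G) a) :=
      (Subgroup.nontrivial_iff_ne_bot _).mpr hne
    obtain ⟨k, hk0, hk⟩ := hpg.nontrivial_iff_card.mp hnt
    have hdvd : p ∣ Nat.card (stabilizer (P : Subgroup G) a) := by
      rw [hk]
      exact dvd_pow_self p hk0.ne'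
    obtain ⟨y, hy⟩ := exists_prime_orderOf_dvd_card' p hdvd
    have hy' : orderOf ((y : (P : Subgroup G)) : G) = p := by
      rw [Subgroup.orderOf_coe, Subgroup.orderOf_coe, hy]
    exact hnofix _ hy' a y.2
  -- `|P| = p`
  have hP : Nat.card (P : Subgroup G) = p := by
    obtain ⟨a⟩ : Nonempty α := inferInstance
    have h1 := MulAction.index_stabilizer (P : Subgroup G) a
    rw [hstab a, Subgroup.index_bot] at h1
    have h2 : Nat.card (P : Subgroup G) ≤ 2 * p := by
      rw [h1, ← hα, ← Nat.card_eq_fintype_card]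
      exact Set.ncard_le_card _
    obtain ⟨k, hk⟩ := P.2.exists_card_eq
    rw [hk] at h2 hPdvd ⊢
    rcases k with _ | _ | k
    · rw [pow_zero] at hPdvd
      exact absurd (Nat.le_of_dvd one_pos hPdvd) (by omega)
    · rw [zero_add, pow_one]
    · exfalso
      have h3 : p ^ 2 ≤ p ^ (k + 1 + 1) := Nat.pow_le_pow_right hpp.pos (by omega)
      have h4 : 3 * p ≤ p ^ 2 := by rw [pow_two]; exact Nat.mul_le_mul_right p hp3
      omega
  -- normal subgroups
  have hnorm : ∀ K : Subgroup G, K.Normal → K ≠ ⊥ → (P : Subgroup G) ≤ K := by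
    intro K hK hK0
    haveI := hK
    exact br_p2p_le_normal hα hfaith P hP K hK0
  -- `P` is not normal
  have hnn : ¬ (P : Subgroup G).Normal := by
    intro hn
    haveI := hn
    have hP0 : (P : Subgroup G) ≠ ⊥ := by
      intro h
      rw [h, Subgroup.card_bot] at hP
      omega
    haveI := br_p2p_normal_trans hfaith (P : Subgroup G) hP0
    have h1 : 2 * p ∣ Nat.card (P : Subgroup G) := hα ▸ br_p2p_card_dvd_of_trans (P : Subgroup G)
    rw [hP] at h1
    have := Nat.le_of_dvd hpp.pos h1
    omega
  refine ⟨hP, hnorm, hnn, ?_, fun a₀ => br_p2p_rank (G := G) hnot2 a₀, ?_⟩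
  · intro x hx hx1
    have hord : orderOf x = p := by
      have hd : orderOf x ∣ p := hP ▸ Subgroup.orderOf_dvd_natCard _ hx
      rcases (Nat.dvd_prime hpp).mp hd with h | h
      · exact absurd (orderOf_eq_one_iff.mp h) hx1
      · exact h
    have hempty : IsEmpty ↥(MulAction.fixedBy α x) := by
      rw [Set.isEmpty_coe_sort, Set.eq_empty_iff_forall_notMem]
      intro a ha
      exact hnofix x hord a ha
    exact Nat.card_of_isEmpty
  · intro a₀ M hM hle
    haveI := hM
    by_cases hM0 : M = ⊥
    · -- then `G_{a₀} = 1`, `|G| = 2p`, and `P` has index `2`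
      exfalso
      have h1 : Nat.card (stabilizer G a₀) = 1 := by
        have : stabilizer G a₀ = ⊥ := le_bot_iff.mp (hM0 ▸ hle)
        rw [this, Subgroup.card_bot]
      have h2 := br_p2p_card_stab (G := G) a₀
      rw [h1, mul_one, hα] at h2
      have h3 : (P : Subgroup G).index = 2 := by
        have h4 := Subgroup.card_mul_index (P : Subgroup G)
        rw [hP, ← h2] at h4
        have := hpp.pos
        nlinarith
      exact hnn (Subgroup.normal_of_index_eq_two h3)
    · -- `M` is transitive and contains `G_{a₀}`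
      haveI := br_p2p_normal_trans hfaith M hM0
      rw [eq_top_iff]
      intro g _
      obtain ⟨m, hm⟩ := MulAction.exists_smul_eq M a₀ (g • a₀)
      have h1 : (m : G)⁻¹ * g ∈ stabilizer G a₀ := by
        rw [mem_stabilizer_iff, mul_smul, ← hm]
        exact inv_smul_smul (m : G) a₀
      have h2 : (m : G) * ((m : G)⁻¹ * g) ∈ M := M.mul_mem m.2 (hle h1)
      rwa [mul_inv_cancel_left] at h2

end Cfsg.Agent.W2P
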